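import Cfsg.Agent.Pres.Carm

/-! Overgroups in `Sym(6)` of the group generated by `(3 4 5)` and `(1 2)(3 4)`. -/

set_option autoImplicit false

namespace Cfsg.Agent.A9R

open Equiv Equiv.Perm Subgroup

/-- evaluation of a word in three letters -/
def l6ev (d : Perm (Fin 6)) : List ℕ → Perm (Fin 6)
  | [] => 1
  | 0 :: l => Pres.c3 3 4 5 * l6ev d l
  | 1 :: l => swap 1 2 * swap 3 4 * l6ev d l
  | _ :: l => d * l6ev d l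

theorem l6ev_mem {L : Subgroup (Perm (Fin 6))} (ha : Pres.c3 3 4 5 ∈ L) (hr : swap 1 2 * swap 3 4 ∈ L)
    {d : Perm (Fin 6)} (hd : d ∈ L) : ∀ l, l6ev d l ∈ L
  | [] => L.one_mem
  | 0 :: l => L.mul_mem ha (l6ev_mem ha hr hd l)
  | 1 :: l => L.mul_mem hr (l6ev_mem ha hr hd l)
  | (_ + 2) :: l => L.mul_mem hd (l6ev_mem ha hr hd l)

/-- words -/
def l6T1 : List (List ℕ) :=
  [[], [], [], [], [], [], [], [], [2], [0, 2, 0, 2, 2], [2, 0, 2, 2, 0], [1, 2, 2, 1, 2], [], [2, 2], [], [0, 2, 0, 2, 2], [2, 0, 2, 2, 0], [2, 2, 1,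
  2, 1], [], [0, 2, 2, 0, 2], [0, 2, 2, 0, 2], [], [0, 2, 2, 0], [0, 0, 2], [], [2, 2, 0, 2, 0], [2, 2, 0, 2, 0], [0, 2, 0], [], [0, 2], [], [1, 2, 1,
  2, 2], [2, 1, 2, 2, 1], [2, 0], [0, 2, 2], [], [], [], [2, 2], [0, 2, 2, 0, 2], [2, 2, 0, 2, 0], [1, 2, 1, 2, 2], [], [], [], [], [], [], [2], [],
  [], [2], [2, 1, 2], [0, 2, 0, 0], [0, 2, 0, 2, 2], [], [2, 2], [], [2, 1], [2, 0, 1], [2, 0, 2, 2, 0], [], [1, 2, 1], [2, 2, 1], [], [0, 2, 2, 1],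
  [1, 2, 2, 1, 2], [], [0, 1, 2, 0, 1], [0, 2, 1, 0], [0, 2, 1], [], [], [2], [], [0, 2, 2, 0, 2], [2, 2, 0, 2, 0], [2, 1, 2, 2, 1], [2, 2], [], [],
  [2, 2], [1, 2, 1], [0, 1, 2, 0, 1], [], [], [], [], [], [], [0, 2, 0, 2, 2], [2], [], [], [1, 2, 2], [0, 1, 2, 2], [2, 0, 2, 2, 0], [2, 1, 2], [],
  [1, 2], [], [1, 2, 0, 0], [2, 2, 1, 2, 1], [0, 2, 0, 0], [], [0, 1, 2], [0, 1, 2, 0], [], [], [0, 2, 0, 2, 2], [0, 2, 0, 2, 2], [], [0, 2, 0], [2,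
  0], [0, 2, 2, 0, 2], [], [2], [], [2, 2, 1], [0, 2, 1, 0], [0, 2, 2, 0, 2], [2, 2], [], [], [1, 2], [0, 1, 2], [], [], [], [], [], [], [0, 2, 2, 0],
  [2, 1], [1, 2, 2], [], [], [], [0, 0, 2], [2, 0, 1], [0, 1, 2, 2], [], [], [], [], [2, 0, 2, 2, 0], [2, 0, 2, 2, 0], [0, 2, 2, 0], [], [0, 2, 2],
  [2, 2, 0, 2, 0], [], [2, 1, 2], [2, 1], [], [0, 2, 1], [2, 2, 0, 2, 0], [1, 2, 1], [], [1, 2, 2], [], [0, 1, 2, 0], [0, 2, 0], [2, 2, 1], [1, 2],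
  [], [], [], [], [], [], [], [], [], [0, 2], [0, 2, 2, 1], [1, 2, 0, 0], [], [], [], [], [1, 2, 2, 1, 2], [2, 2, 1, 2, 1], [0, 0, 2], [0, 2], [], [1,
  2, 1, 2, 2], [], [0, 2, 0, 0], [2, 0, 1], [0, 2, 2, 1], [], [2, 1, 2, 2, 1], [0, 1, 2, 0, 1], [], [0, 1, 2, 2], [1, 2, 0, 0], [], [2, 0], [0, 2, 1,
  0], [0, 1, 2], [], [], [], [0, 2, 2], [0, 2, 1], [0, 1, 2, 0], [], [], [], [], [], [], [], [], []]

/-- words -/
def l6T2 : List (List ℕ) :=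
  [[], [], [], [], [], [], [], [], [], [], [], [], [], [], [], [], [], [], [], [], [], [], [], [], [], [], [], [], [], [], [], [], [], [], [], [], [],
  [], [], [], [], [], [], [], [], [], [], [], [], [], [], [], [0], [0, 0], [], [], [1, 0, 2], [], [2, 2, 1], [1, 0, 2, 0], [], [], [1, 2], [1, 2, 0],
  [], [0, 2, 2, 1], [], [], [0, 1, 2], [0, 0, 2, 2, 1], [0, 1, 2, 0], [], [], [], [], [], [], [], [], [], [], [1, 0], [1], [0, 1], [], [], [], [], [],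
  [], [], [2], [], [], [2, 0], [2, 0, 0], [], [0, 2], [], [2, 1, 2], [], [0, 2, 0], [], [0, 0, 2], [], [0, 0, 2, 0], [0, 2, 1, 2], [], [], [], [], [],
  [], [], [], [], [2, 2], [], [2, 2, 0], [1, 0, 2, 1], [], [2, 1, 0], [], [], [2, 1], [2, 0, 1], [], [], [], [], [], [], [], [2, 2, 1, 2], [2, 0, 2],
  [], [], [2, 0, 2, 0], [], [1, 0, 2, 0, 2], [2, 0, 0, 2], [], [2, 0, 2, 1, 2], [], [], [], [], [], [], [], [], [], [0, 2, 2], [1, 2, 1], [], [0, 2,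
  2, 0], [], [1, 2, 2], [], [0, 2, 0, 1], [], [0, 2, 1], [], [1, 2, 0, 2], [2, 1, 2, 2], [], [], [2, 0, 2, 1], [], [], [], [], [], [], [], [0, 2, 2,
  1, 2], [0, 2, 0, 2], [0, 2, 0, 2, 0], [], [], [], [], [], [], [], [], [], [], [0, 0, 2, 2], [0, 0, 2, 2, 0], [0, 1, 2, 1], [], [], [0, 1, 2, 2], [],
  [0, 0, 2, 1], [0, 0, 2, 0, 1], [], [], [2, 0, 0, 2, 1], [0, 0, 2, 0, 2], [], [0, 0, 2, 0, 2, 0], [], [], [0, 1, 2, 0, 2], [0, 2, 1, 2, 2], [0, 2, 0,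
  2, 1], [], [], [], [], [], [], [], []]

theorem l6_a : ∀ i j k : Fin 6, i ≠ j → i ≠ k → j ≠ k → Pres.c3 i j k = Pres.c3 3 4 5 ∨
    Pres.c3 i j k = Pres.c3 3 4 5 * Pres.c3 3 4 5 ∨
    l6ev (Pres.c3 i j k) (l6T1.getD (36 * i.val + 6 * j.val + k.val) []) = swap 0 5 * swap 3 4 ∨
    l6ev (Pres.c3 i j k) (l6T1.getD (36 * i.val + 6 * j.val + k.val) []) = Pres.c3 0 1 2 ∨
    l6ev (Pres.c3 i j k) (l6T1.getD (36 * i.val + 6 * j.val + k.val) []) = Pres.c3 1 2 3 := by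
  decide +kernel

theorem l6_b : ∀ π : Perm (Fin 6), π 0 = 0 → sign π = 1 →
    l6ev (Pres.c3 1 2 3) (l6T2.getD (36 * (π 1).val + 6 * (π 2).val + (π 3).val) []) = π := by
  decide +kernel

theorem l6_a5 (L : Subgroup (Perm (Fin 6))) (ha : Pres.c3 3 4 5 ∈ L) (hr : swap 1 2 * swap 3 4 ∈ L)
    (hy : Pres.c3 1 2 3 ∈ L) (π : Perm (Fin 6)) (h0 : π 0 = 0) (hs : sign π = 1) : π ∈ L :=
  l6_b π h0 hs ▸ l6ev_mem ha hr hy _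

theorem l6 (L : Subgroup (Perm (Fin 6))) (ha : Pres.c3 3 4 5 ∈ L) (hr : swap 1 2 * swap 3 4 ∈ L) {g : Perm (Fin 6)}
    (hg : g ∈ L) (hn : g * Pres.c3 3 4 5 * g⁻¹ ∉ zpowers (Pres.c3 3 4 5 : Perm (Fin 6))) :
    swap 0 5 * swap 3 4 ∈ L ∨ Pres.c3 0 1 2 ∈ L ∨ ∀ π : Perm (Fin 6), π 0 = 0 → sign π = 1 → π ∈ L := by
  have hd : g * Pres.c3 3 4 5 * g⁻¹ ∈ L := L.mul_mem (L.mul_mem hg ha) (L.inv_mem hg)
  rw [Pres.conj_c3] at hd hn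
  rcases l6_a (g 3) (g 4) (g 5) (g.injective.ne (by decide)) (g.injective.ne (by decide))
    (g.injective.ne (by decide)) with h | h | h | h | h
  · exact absurd (h ▸ mem_zpowers _) hn
  · exact absurd (h ▸ mul_mem (mem_zpowers _) (mem_zpowers _)) hn
  · exact Or.inl (h ▸ l6ev_mem ha hr hd _)
  · exact Or.inr (Or.inl (h ▸ l6ev_mem ha hr hd _))
  · exact Or.inr (Or.inr (l6_a5 L ha hr (h ▸ l6ev_mem ha hr hd _)))

end Cfsg.Agent.A9R
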