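import Mathlib

/-! Subgroups of `A₆` containing `(3 4 5)` and `(1 2)(3 4)` but not `(0 1 2)`. -/

set_option autoImplicit false

namespace Cfsg.Agent.A9R

open Equiv Subgroup

/-- table of a permutation of 6 points -/
structure T6L where
  a0 : Fin 6
  a1 : Fin 6
  a2 : Fin 6
  a3 : Fin 6
  a4 : Fin 6
  a5 : Fin 6
  deriving DecidableEq

/-- evaluation -/
def T6L.ap (t : T6L) (x : Fin 6) : Fin 6 :=
  cond (x.1.ble 2) (cond (x.1.ble 0) t.a0 (cond (x.1.ble 1) t.a1 t.a2)) (cond (x.1.ble 3) t.a3 (cond (x.1.ble 4) t.a4 t.a5))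
/-- composition -/
def T6L.mul (s t : T6L) : T6L := ⟨s.ap t.a0, s.ap t.a1, s.ap t.a2, s.ap t.a3, s.ap t.a4, s.ap t.a5⟩
/-- the table of a permutation -/
def tup6L (p : Perm (Fin 6)) : T6L := ⟨p 0, p 1, p 2, p 3, p 4, p 5⟩

theorem tup6L_ap (p : Perm (Fin 6)) (x : Fin 6) : (tup6L p).ap x = p x := by fin_cases x <;> rfl
theorem tup6L_mul (p q : Perm (Fin 6)) : tup6L (p * q) = (tup6L p).mul (tup6L q) := by
  simp only [T6L.mul, tup6L_ap]; rfl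
theorem tup6L_inj {p q : Perm (Fin 6)} : p = q ↔ tup6L p = tup6L q :=
  ⟨congrArg _, fun e => Equiv.ext fun x => by rw [← tup6L_ap, ← tup6L_ap, e]⟩

/-- value of a word in `(3 4 5)`, `(1 2)(3 4)` and `t` -/
def ev6L (t : T6L) : List (Fin 3) → T6L
  | [] => ⟨0, 1, 2, 3, 4, 5⟩
  | i :: l => (cond (i.1.ble 0) ⟨0, 1, 2, 4, 5, 3⟩ (cond (i.1.ble 1) ⟨0, 2, 1, 4, 3, 5⟩ t) : T6L).mul (ev6L t l)

theorem ev6L_mem {L : Subgroup (Perm (Fin 6))} (h3 : swap 3 5 * swap 3 4 ∈ L) (hρ : swap 1 2 * swap 3 4 ∈ L)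
    {g : Perm (Fin 6)} (hg : g ∈ L) (l : List (Fin 3)) : ∃ p ∈ L, tup6L p = ev6L (tup6L g) l := by
  induction l with
  | nil => exact ⟨1, one_mem _, rfl⟩
  | cons i l ih =>
    obtain ⟨p, hp, e⟩ := ih
    fin_cases i
    · exact ⟨_, mul_mem h3 hp, by rw [tup6L_mul, e, show tup6L (swap 3 5 * swap 3 4) = ⟨0, 1, 2, 4, 5, 3⟩ by decide +kernel]; rfl⟩
    · exact ⟨_, mul_mem hρ hp, by rw [tup6L_mul, e, show tup6L (swap 1 2 * swap 3 4) = ⟨0, 2, 1, 4, 3, 5⟩ by decide +kernel]; rfl⟩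
    · exact ⟨_, mul_mem hg hp, by rw [tup6L_mul, e]; rfl⟩

/-- words for the elements of `A₅` -/
def w5L : List (List (Fin 3)) := [[], [0], [1], [2], [0, 0], [1, 0], [2, 0], [0, 1], [2, 1], [0, 2], [1, 2], [2, 2], [2, 0, 0], [2, 1, 0], [1, 2, 0], [2, 2, 0], [2, 0, 1], [0, 2, 1], [1, 2, 1], [2, 2, 1], [0, 0, 2], [1, 0, 2], [0, 1, 2], [2, 1, 2], [0, 2, 2], [1, 2, 2], [1, 2, 0, 0], [0, 2, 1, 0], [1, 2, 1, 0], [0, 1, 2, 0], [2, 1, 2, 0], [0, 2, 2, 0], [1, 2, 2, 0], [1, 2, 0, 1], [0, 0, 2, 1], [0, 1, 2, 1], [0, 2, 2, 1], [2, 1, 0, 2], [2, 0, 1, 2], [2, 2, 1, 2], [2, 1, 2, 2], [0, 1, 2, 0, 0], [2, 1, 2, 0, 0], [0, 0, 2, 1, 0], [0, 1, 2, 1, 0], [2, 0, 1, 2, 0], [2, 2, 1, 2, 0], [2, 1, 2, 2, 0], [0, 1, 2, 0, 1], [2, 0, 1, 2, 1], [0, 2, 1, 0, 2], [1, 2, 1, 0, 2], [1, 2, 0, 1, 2], [0, 2, 2, 1, 2], [2, 0, 1, 2, 0, 0], [2, 0, 1, 2, 1, 0],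 [1, 2, 0, 1, 2, 0], [0, 2, 2, 1, 2, 0], [2, 0, 1, 2, 0, 1], [0, 1, 2, 1, 0, 2]]
/-- words reaching `(0 1 2)`, `(0 5)(3 4)` or `(1 3 4)` -/
def w3L : List (List (Fin 3)) := [[2], [0, 2], [2, 2], [1, 2], [2, 1], [2, 0], [1, 2, 2], [2, 1, 2], [2, 2, 1], [1, 2, 1], [0, 2, 0], [2, 0, 0], [2, 2, 0], [0, 2, 2], [0, 2, 2, 0], [0, 1, 2, 1], [1, 2, 1, 0], [2, 2, 0, 2], [0, 2, 1, 0], [2, 0, 2, 2], [0, 1, 2, 0], [2, 0, 2, 2, 0], [2, 1, 2, 2, 1], [1, 2, 2, 1, 0], [2, 2, 0, 2, 0], [0, 2, 2, 0, 2], [1, 0, 2, 1, 0], [2, 2, 1, 2, 1], [0, 2, 0, 2, 2]]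

set_option synthInstance.maxSize 4096 in
set_option maxHeartbeats 2000000 in
theorem a5L_chk : ∀ a1 : Fin 6, a1 ≠ 0 → ∀ a2 : Fin 6, a2 ≠ 0 → a2 ≠ a1 → ∀ a3 : Fin 6, a3 ≠ 0 → a3 ≠ a1 → a3 ≠ a2 →
    ∀ a4 : Fin 6, a4 ≠ 0 → a4 ≠ a1 → a4 ≠ a2 → a4 ≠ a3 → ∀ a5 : Fin 6, a5 ≠ 0 → a5 ≠ a1 → a5 ≠ a2 → a5 ≠ a3 → a5 ≠ a4 →
    ∃ l ∈ w5L, ev6L ⟨0, 3, 2, 4, 1, 5⟩ l = ⟨0, a1, a2, a3, a4, a5⟩ ∨ ev6L ⟨0, 3, 2, 4, 1, 5⟩ l = ⟨0, a2, a1, a3, a4, a5⟩ := by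
  decide +kernel

/-- the 3-cycle `x ↦ y ↦ z ↦ x` -/
def c6L (x y z : Fin 6) : T6L :=
  let f : Fin 6 → Fin 6 := fun u => if u = x then y else if u = y then z else if u = z then x else u
  ⟨f 0, f 1, f 2, f 3, f 4, f 5⟩

set_option synthInstance.maxSize 4096 in
set_option maxHeartbeats 2000000 in
theorem c3L_chk : ∀ x y : Fin 6, y ≠ x → ∀ z : Fin 6, z ≠ x → z ≠ y → c6L x y z = ⟨0, 1, 2, 4, 5, 3⟩ ∨ c6L x y z = ⟨0, 1, 2, 5, 3, 4⟩ ∨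
    ∃ l ∈ w3L, ev6L (c6L x y z) l = ⟨1, 2, 0, 3, 4, 5⟩ ∨ ev6L (c6L x y z) l = ⟨5, 1, 2, 4, 3, 0⟩ ∨ ev6L (c6L x y z) l = ⟨0, 3, 2, 4, 1, 5⟩ := by
  decide +kernel

theorem conj_c6L (π : Perm (Fin 6)) : tup6L (π * (swap 3 5 * swap 3 4) * π⁻¹) = c6L (π 3) (π 4) (π 5) := by
  have k : ∀ u, (π * (swap 3 5 * swap 3 4) * π⁻¹ : Perm (Fin 6)) u =
      if u = π 3 then π 4 else if u = π 4 then π 5 else if u = π 5 then π 3 else u := fun u => by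
    obtain ⟨v, rfl⟩ := π.surjective u
    simp only [Perm.mul_apply, Perm.coe_inv, Equiv.symm_apply_apply, EmbeddingLike.apply_eq_iff_eq]
    fin_cases v <;> rfl
  simp only [tup6L, c6L, k]

theorem a6l (L : Subgroup (Perm (Fin 6))) (ev : ∀ π ∈ L, Perm.sign π = 1) (h3 : swap 3 5 * swap 3 4 ∈ L)
    (hρ : swap 1 2 * swap 3 4 ∈ L) (h9 : swap 0 2 * swap 0 1 ∉ L) :
    (∀ π ∈ L, π * (swap 3 5 * swap 3 4) * π⁻¹ ∈ zpowers (swap 3 5 * swap 3 4 : Perm (Fin 6))) ∨ swap 0 5 * swap 3 4 ∈ L ∨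
      ∀ π : Perm (Fin 6), Perm.sign π = 1 → π 0 = 0 → π ∈ L := by
  by_cases hd : (swap 1 4 * swap 1 3 : Perm (Fin 6)) ∈ L
  · refine .inr (.inr fun π hs h0 => ?_)
    have ne : ∀ i j : Fin 6, i ≠ j → π i ≠ π j := fun i j h => π.injective.ne h
    have n0 : ∀ i : Fin 6, i ≠ 0 → π i ≠ 0 := fun i h => h0 ▸ ne i 0 h
    obtain ⟨l, -, e⟩ := a5L_chk (π 1) (n0 _ (by decide)) (π 2) (n0 _ (by decide)) (ne _ _ (by decide)) (π 3) (n0 _ (by decide))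
      (ne _ _ (by decide)) (ne _ _ (by decide)) (π 4) (n0 _ (by decide)) (ne _ _ (by decide)) (ne _ _ (by decide))
      (ne _ _ (by decide)) (π 5) (n0 _ (by decide)) (ne _ _ (by decide)) (ne _ _ (by decide)) (ne _ _ (by decide))
      (ne _ _ (by decide))
    obtain ⟨p, hp, ep⟩ := ev6L_mem h3 hρ hd l
    rw [show tup6L (swap 1 4 * swap 1 3) = ⟨0, 3, 2, 4, 1, 5⟩ by decide +kernel] at ep
    rcases e with e | e
    · rwa [show π = p from tup6L_inj.2 (by rw [ep, e, ← h0]; simp only [tup6L, h0])]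
    · have e2 : p = π * swap 1 2 := tup6L_inj.2 (by
        rw [ep, e, tup6L_mul, show tup6L (swap 1 2) = ⟨0, 2, 1, 3, 4, 5⟩ by decide +kernel]
        simp only [T6L.mul, tup6L_ap, h0])
      have := ev p hp
      rw [e2, Perm.sign_mul, hs, Perm.sign_swap (by decide)] at this
      exact absurd this (by decide)
  by_cases hw : (swap 0 5 * swap 3 4 : Perm (Fin 6)) ∈ L
  · exact .inr (.inl hw)
  refine .inl fun π hπ => ?_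
  have ne : ∀ i j : Fin 6, i ≠ j → π i ≠ π j := fun i j h => π.injective.ne h
  have hg := mul_mem (mul_mem hπ h3) (inv_mem hπ)
  rcases c3L_chk (π 3) (π 4) (ne _ _ (by decide)) (π 5) (ne _ _ (by decide)) (ne _ _ (by decide)) with e | e | ⟨l, -, e⟩
  · rw [tup6L_inj.2 ((conj_c6L π).trans (e.trans (show _ = tup6L (swap 3 5 * swap 3 4) by decide +kernel)))]
    exact mem_zpowers _
  · rw [tup6L_inj.2 ((conj_c6L π).trans (e.trans (show _ = tup6L ((swap 3 5 * swap 3 4) * (swap 3 5 * swap 3 4)) by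
      decide +kernel)))]
    exact mul_mem (mem_zpowers _) (mem_zpowers _)
  · obtain ⟨p, hp, ep⟩ := ev6L_mem h3 hρ hg l
    rw [conj_c6L] at ep
    rcases e with e | e | e
    · exact absurd (tup6L_inj.2 (ep.trans (e.trans (show _ = tup6L (swap 0 2 * swap 0 1) by decide +kernel))) ▸ hp) h9
    · exact absurd (tup6L_inj.2 (ep.trans (e.trans (show _ = tup6L (swap 0 5 * swap 3 4) by decide +kernel))) ▸ hp) hw
    · exact absurd (tup6L_inj.2 (ep.trans (e.trans (show _ = tup6L (swap 1 4 * swap 1 3) by decide +kernel))) ▸ hp) hd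

end Cfsg.Agent.A9R
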