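import Cfsg.Agent.Pres.Carm

/-! Frame for the case `N(⟨a⟩) = (S₃ × S₆)⁺`: `a = (6 7 8)`, `σ π = π · (6 7)^{sign π}`, `ρ = (0 6)(1 7)(2 8)(4 5)` (helper16). -/

set_option autoImplicit false

namespace Cfsg.Agent.A9R

open Equiv Subgroup

/-- `(0 1 2)` -/
def b1 : Perm (Fin 6) := swap 0 2 * swap 0 1
/-- `(3 4 5)` -/
def b2 : Perm (Fin 6) := swap 3 5 * swap 3 4
/-- `(0 1)(2 3)` -/
def v1 : Perm (Fin 6) := swap 0 1 * swap 2 3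
/-- `(0 2)(1 3)` -/
def v2 : Perm (Fin 6) := swap 0 2 * swap 1 3

variable {G : Type*} [Group G]

/-- The frame. -/
structure B1 (σ : Perm (Fin 6) →* G) (a ρ : G) : Prop where
  inj : Function.Injective σ
  oa : orderOf a = 3
  nr : a ∉ σ.range
  act : ∀ π, σ π * a * (σ π)⁻¹ = if Perm.sign π = 1 then a else a⁻¹
  na : ∀ g ∈ normalizer (zpowers a : Set G), ∃ π, ∃ u ∈ zpowers a, g = u * σ π
  rr : ρ * ρ = 1
  ra : ρ * a * ρ⁻¹ = σ b1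
  r01 : ρ * σ (swap 0 1) * ρ⁻¹ = σ (swap 0 1)
  r45 : ρ * σ (swap 4 5) * ρ⁻¹ = σ (swap 0 1 * swap 4 5)
  r34 : ρ * σ (swap 3 4) * ρ⁻¹ = σ (swap 0 1 * swap 3 5)
  hb : Nat.card (centralizer ({a * σ b1} : Set G)) ∣ 54
  hc : Nat.card (centralizer ({a * σ (b1 * b2)} : Set G)) ∣ 81
  h9 : ∀ i : G, orderOf i = 2 → ¬ 9 ∣ Nat.card (centralizer ({i} : Set G))

/-- `V = V{0,1,2,3}` -/
abbrev VB (σ : Perm (Fin 6) →* G) : Subgroup G := closure {σ v1, σ v2}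

/-- The pull-back of `C(V) ∩ ρ σ(A₆) ρ⁻¹`. -/
def MB (σ : Perm (Fin 6) →* G) (ρ : G) : Subgroup (Perm (Fin 6)) :=
  alternatingGroup (Fin 6) ⊓ ((centralizer (VB σ : Set G)).comap (MulAut.conj ρ).toMonoidHom).comap σ

theorem mem_MB {σ : Perm (Fin 6) →* G} {ρ : G} {π : Perm (Fin 6)} :
    π ∈ MB σ ρ ↔ Perm.sign π = 1 ∧ ρ * σ π * ρ⁻¹ ∈ centralizer (VB σ : Set G) := Iff.rfl

end Cfsg.Agent.A9R
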