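import Cfsg.Agent.S3333

/-! S3339, piece CA: the normalizer of `⟨a⟩` modulo `⟨a⟩` is `Sym(6)` or normalizes `J`. (helper19) -/

set_option autoImplicit false
set_option linter.style.haveILetI false

namespace Cfsg.Agent.A9R

open Equiv Subgroup

theorem ca_core {C : Type*} [Group C] [Finite C] {Z D : Subgroup C} [Z.Normal] (hZ : Nat.card Z = 3) (ZD : Z ≤ D)
    (hD : Nat.card D = 27) (hab : ∀ x ∈ D, ∀ y ∈ D, x * y = y * x) (h81 : ¬ 81 ∣ Nat.card C)
    (f0 : normalizer (D : Set C) →* DihedralGroup 4) (s0 : Function.Surjective f0) (k0 : ∀ g, f0 g = 1 ↔ g.1 ∈ D)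
    (fa : ∀ g ∈ normalizer (D : Set C), (∀ j ∈ D, g * j * g⁻¹ * j⁻¹ ∈ Z) → g ∈ D)
    (hx : ∀ x ∈ D, x ∉ Z → ∀ g, g * x * g⁻¹ * x⁻¹ ∈ Z → g ∈ normalizer (D : Set C)) :
    (∀ g, g ∈ normalizer (D : Set C)) ∨
      ∃ f : C →* Perm (Fin 6), Function.Surjective f ∧ ∀ g, f g = 1 ↔ g ∈ Z := by
  haveI : Fact (Nat.Prime 3) := ⟨Nat.prime_three⟩
  let π := QuotientGroup.mk' Z
  have πs : Function.Surjective π := QuotientGroup.mk'_surjective Z
  have π1 : ∀ g, π g = 1 ↔ g ∈ Z := fun g => QuotientGroup.eq_one_iff g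
  let S := D.map π
  have mS : ∀ g, π g ∈ S ↔ g ∈ D := fun g => ⟨fun ⟨d, hd, e⟩ => by
    have := mul_mem hd (ZD ((π1 (d⁻¹ * g)).1 (by rw [map_mul, map_inv, e, inv_mul_cancel])))
    rwa [mul_inv_cancel_left] at this, fun h => ⟨g, h, rfl⟩⟩
  have nn : ∀ g, π g ∈ normalizer (S : Set (C ⧸ Z)) ↔ g ∈ normalizer (D : Set C) := fun g => by
    rw [mem_normalizer_iff, mem_normalizer_iff]
    refine ⟨fun h d => ?_, fun h d => ?_⟩
    · rw [← mS, h, ← map_inv, ← map_mul, ← map_mul, mS]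
    · obtain ⟨d, rfl⟩ := πs d
      rw [← map_inv, ← map_mul, ← map_mul, mS, mS, h]
  have cm : ∀ g x, π g * π x = π x * π g ↔ g * x * g⁻¹ * x⁻¹ ∈ Z := fun g x => by
    rw [← π1, map_mul, map_mul, map_mul, map_inv, map_inv, mul_inv_eq_one, mul_inv_eq_iff_eq_mul]
  have ix : S.index = D.index := by
    rw [← index_comap_of_surjective S πs, show S.comap π = D from Subgroup.ext mS]
  have c1 := card_eq_card_quotient_mul_card_subgroup Z
  have c2 := S.card_mul_index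
  have c3 := D.card_mul_index
  have c4 : D.index ≠ 0 := index_ne_zero_of_finite
  rw [hZ] at c1
  rw [hD] at c3
  rw [ix] at c2
  have hS9 : Nat.card S = 9 := Nat.eq_of_mul_eq_mul_right (Nat.pos_of_ne_zero c4) (by omega)
  have hp : IsPGroup 3 S := IsPGroup.of_card (n := 2) hS9
  have hidx : ¬ 3 ∣ S.index := by rw [ix]; omega
  have hCS : centralizer (S : Set (C ⧸ Z)) = S := by
    refine le_antisymm (fun g hg => ?_) ?_
    · obtain ⟨g, rfl⟩ := πs g
      exact (mS g).2 (fa g ((nn g).1 (centralizer_le_normalizer _ hg)) fun j hj =>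
        (cm g j).1 (hg _ ((mS j).2 hj)).symm)
    · rintro _ ⟨x, hx, rfl⟩ _ ⟨y, hy, rfl⟩
      rw [← map_mul, ← map_mul, hab y hy x hx]
  let ρ : normalizer (D : Set C) →* _ := (QuotientGroup.mk' (S.subgroupOf (normalizer (S : Set _)))).comp
    ((π.comp (normalizer (D : Set C)).subtype).codRestrict (normalizer (S : Set _)) (fun g => (nn g.1).2 g.2))
  have ρ1 : ρ.ker = f0.ker := Subgroup.ext fun g => by
    rw [MonoidHom.mem_ker, MonoidHom.mem_ker, k0, ← mS]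
    show QuotientGroup.mk' _ _ = 1 ↔ _
    rw [← MonoidHom.mem_ker, QuotientGroup.ker_mk', mem_subgroupOf]; rfl
  have ρs : Function.Surjective ρ := by
    intro x
    obtain ⟨⟨y, hy⟩, rfl⟩ := QuotientGroup.mk'_surjective _ x
    obtain ⟨g, rfl⟩ := πs y
    exact ⟨⟨g, (nn g).1 hy⟩, rfl⟩
  rcases S3333.result (hp.toSylow hidx) S rfl hS9 hCS
    ((QuotientGroup.quotientKerEquivOfSurjective ρ ρs).symm.trans
      ((QuotientGroup.quotientMulEquivOfEq ρ1).trans (QuotientGroup.quotientKerEquivOfSurjective f0 s0))) (by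
    rintro _ ⟨x, hx', rfl⟩ h1 y hy
    obtain ⟨g, rfl⟩ := πs y
    exact (nn g).2 (hx x hx' (fun h => h1 ((π1 x).2 h)) g ((cm g x).1 (mem_centralizer_singleton_iff.1 hy))))
    with hn | ⟨⟨eS⟩⟩
  · exact Or.inl fun g => (nn g).1 (by rw [normalizer_eq_top_iff.2 hn]; trivial)
  · exact Or.inr ⟨eS.toMonoidHom.comp π, eS.surjective.comp πs, fun g => eS.map_eq_one_iff.trans (π1 g)⟩

theorem ca {G : Type*} [Group G] [Finite G] {J : Subgroup G} {a : G} (comm : IsMulCommutative J)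
    (card : Nat.card J = 27) (ha : a ∈ J) (o : orderOf a = 3)
    (h81 : ¬ 81 ∣ Nat.card (normalizer (zpowers a : Set G)))
    (f0 : ↥(normalizer (J : Set G) ⊓ normalizer (zpowers a : Set G)) →* DihedralGroup 4)
    (s0 : Function.Surjective f0) (k0 : ∀ g, f0 g = 1 ↔ g.1 ∈ J)
    (fa : ∀ g ∈ normalizer (J : Set G), g ∈ normalizer (zpowers a : Set G) →
      (∀ j ∈ J, g * j * g⁻¹ * j⁻¹ ∈ zpowers a) → g ∈ J)
    (hx : ∀ x ∈ J, x ∉ zpowers a → ∃ u ∈ zpowers a, ∀ g, g * (x * u) * g⁻¹ ∈ J → g ∈ normalizer (J : Set G)) :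
    normalizer (zpowers a : Set G) ≤ normalizer (J : Set G) ∨
      ∃ f : normalizer (zpowers a : Set G) →* Perm (Fin 6), Function.Surjective f ∧
        ∀ g, f g = 1 ↔ g.1 ∈ zpowers a := by
  have hab : ∀ x ∈ J, ∀ y ∈ J, x * y = y * x := fun x hx y hy =>
    congrArg Subtype.val (comm.is_comm.comm ⟨x, hx⟩ ⟨y, hy⟩)
  have ZJ : zpowers a ≤ J := zpowers_le.2 ha
  let M := normalizer (zpowers a : Set G)
  have JM : J ≤ M := fun j hj => centralizer_le_normalizer _ fun y hy => hab y (ZJ hy) j hj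
  have nn : ∀ g : M, g ∈ normalizer (J.subgroupOf M : Set M) ↔ g.1 ∈ normalizer (J : Set G) := fun g => by
    refine ⟨fun h => mem_normalizer_fintype fun j hj => (mem_normalizer_iff.1 h ⟨j, JM hj⟩).1 hj, fun h => ?_⟩
    exact mem_normalizer_iff.2 fun d => mem_normalizer_iff.1 h d.1
  let ι : normalizer (J.subgroupOf M : Set M) →* ↥(normalizer (J : Set G) ⊓ M) :=
    (M.subtype.comp (normalizer (J.subgroupOf M : Set M)).subtype).codRestrict _ fun g => ⟨(nn g.1).1 g.2, g.1.2⟩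
  have ιs : Function.Surjective ι := fun g => ⟨⟨⟨g.1, g.2.2⟩, (nn _).2 g.2.1⟩, rfl⟩
  haveI : ((zpowers a).subgroupOf M).Normal := normal_in_normalizer
  refine (ca_core (Z := (zpowers a).subgroupOf M) (D := J.subgroupOf M)
    (by rw [Nat.card_congr (subgroupOfEquivOfLe (ZJ.trans JM)).toEquiv, Nat.card_zpowers, o])
    (fun x hx => ZJ hx) (by rw [Nat.card_congr (subgroupOfEquivOfLe JM).toEquiv, card])
    (fun x hx y hy => Subtype.ext (hab x hx y hy)) h81 (f0.comp ι) (s0.comp ιs) (fun g => k0 (ι g))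
    (fun g hg h => fa g ((nn g).1 hg) g.2 fun j hj => h ⟨j, JM hj⟩ hj) fun x hx' hn g hg => ?_).imp
    (fun h g hg => (nn ⟨g, hg⟩).1 (h _)) id
  obtain ⟨u, hu, h⟩ := hx x hx' hn
  refine (nn g).2 (h g ?_)
  rw [show (g : G) * (x * u) * (g : G)⁻¹ = (g * x * (g : G)⁻¹ * (x : G)⁻¹) * x * (g * u * (g : G)⁻¹) by group]
  exact mul_mem (mul_mem (ZJ hg) hx') (ZJ ((mem_normalizer_iff.1 g.2 u).1 hu))

end Cfsg.Agent.A9R
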