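import Cfsg.Agent.S3333

set_option autoImplicit false

namespace Cfsg.Agent.A9R

open Subgroup Function

variable {G : Type*} [Group G] [Finite G]

lemma ca2_nrm {J : Subgroup G} {g : G} (h : ∀ j ∈ J, g * j * g⁻¹ ∈ J) :
    g ∈ normalizer (J : Set G) :=
  Subgroup.mem_normalizer_fintype h

lemma ca2_d3 : ∀ d : DihedralGroup 4, d ^ 3 = 1 → d = 1 := by decide

lemma ca2_dz : ∀ d : DihedralGroup 4, d ≠ 1 →
    d = DihedralGroup.r 2 ∨ ∃ e : DihedralGroup 4, d * (e * d⁻¹ * e⁻¹) = DihedralGroup.r 2 := by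
  decide

lemma ca2_sq {a h : G} (o : orderOf a = 3) (hh : h ∈ normalizer (zpowers a : Set G)) :
    h * h * a = a * (h * h) := by
  have h1 : h * a * h⁻¹ ∈ zpowers a := (mem_normalizer_iff.1 hh a).1 (mem_zpowers a)
  have a3 : a ^ 3 = 1 := o ▸ pow_orderOf_eq_one a
  have a1 : a ≠ 1 := by rintro rfl; simp at o
  classical
  rw [mem_zpowers_iff_mem_range_orderOf, o] at h1
  simp only [Finset.mem_image, Finset.mem_range] at h1
  obtain ⟨n, hn, e⟩ := h1
  have key : h * h * a * (h * h)⁻¹ = a ^ (n * n) := by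
    calc h * h * a * (h * h)⁻¹ = h * (h * a * h⁻¹) * h⁻¹ := by group
      _ = h * a ^ n * h⁻¹ := by rw [e]
      _ = (h * a * h⁻¹) ^ n := by rw [conj_pow]
      _ = a ^ (n * n) := by rw [← e, ← pow_mul]
  have : h * h * a * (h * h)⁻¹ = a := by
    rw [key]
    interval_cases n
    · exfalso; apply a1
      have : a = h⁻¹ * a ^ 0 * h := by rw [e]; group
      simpa using this
    · simp
    · calc a ^ (2 * 2) = a ^ 3 * a := by group
        _ = a := by rw [a3, one_mul]
  calc h * h * a = h * h * a * (h * h)⁻¹ * (h * h) := by group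
    _ = a * (h * h) := by rw [this]

lemma ca2_ker {J : Subgroup G} {a : G} (comm : IsMulCommutative J) (ha : a ∈ J) (o : orderOf a = 3)
    (hCJ : centralizer (J : Set G) ≤ J)
    (eN : ↥(normalizer (J : Set G) ⊓ normalizer (zpowers a : Set G)) →* DihedralGroup 4)
    (hs : Surjective eN) (hk : ∀ g, eN g = 1 ↔ (g : G) ∈ J)
    (g : ↥(normalizer (J : Set G) ⊓ normalizer (zpowers a : Set G)))
    (hg : ∀ j ∈ J, (g : G) * j * (g : G)⁻¹ * j⁻¹ ∈ zpowers a) : (g : G) ∈ J := by
  have cm : ∀ x ∈ J, ∀ y ∈ J, x * y = y * x := fun x hx y hy =>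
    congrArg Subtype.val (comm.is_comm.comm (⟨x, hx⟩ : J) ⟨y, hy⟩)
  have nz : ∀ (e : ↥(normalizer (J : Set G) ⊓ normalizer (zpowers a : Set G))), ∀ z ∈ zpowers a,
      (e : G) * z * (e : G)⁻¹ ∈ zpowers a := fun e z hz => (mem_normalizer_iff.1 e.2.2 z).1 hz
  have nj : ∀ (e : ↥(normalizer (J : Set G) ⊓ normalizer (zpowers a : Set G))), ∀ z ∈ J,
      (e : G) * z * (e : G)⁻¹ ∈ J := fun e z hz => (mem_normalizer_iff.1 e.2.1 z).1 hz
  have main : ∀ k : ↥(normalizer (J : Set G) ⊓ normalizer (zpowers a : Set G)),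
      (∀ j ∈ J, (k : G) * j * (k : G)⁻¹ * j⁻¹ ∈ zpowers a) → eN k ≠ DihedralGroup.r 2 := by
    intro k hkk e
    obtain ⟨h, hh⟩ := hs (DihedralGroup.r 1)
    have h1 : ((k * (h * h)⁻¹ : ↥(normalizer (J : Set G) ⊓ normalizer (zpowers a : Set G))) : G) ∈ J := by
      rw [← hk, map_mul, map_inv, map_mul, e, hh]; decide
    have h2 : ((k * k : ↥(normalizer (J : Set G) ⊓ normalizer (zpowers a : Set G))) : G) ∈ J := by
      rw [← hk, map_mul, e]; decide
    simp only [Subgroup.coe_mul, Subgroup.coe_inv] at h1 h2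
    have s1 := ca2_sq o h.2.2
    have ka : Commute (k : G) a := by
      have c1 : Commute ((k : G) * ((h : G) * h)⁻¹) a := cm _ h1 _ ha
      have c2 : Commute ((h : G) * h) a := s1
      have := c1.mul_left c2
      rwa [inv_mul_cancel_right] at this
    have kJ : (k : G) ∈ J := by
      apply hCJ
      rw [mem_centralizer_iff]
      intro j hj
      obtain ⟨n, hn⟩ := mem_zpowers_iff.1 (hkk j hj)
      have kz : Commute (k : G) (a ^ n) := ka.zpow_right n
      have e1 : (k : G) * j * (k : G)⁻¹ = a ^ n * j := by rw [hn]; group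
      have e2 : (k : G) * k * j * ((k : G) * k)⁻¹ = j := by
        rw [cm _ h2 _ hj]; group
      have e3 : a ^ n * a ^ n = 1 := by
        have : (k : G) * k * j * ((k : G) * k)⁻¹ = a ^ n * a ^ n * j := by
          calc (k : G) * k * j * ((k : G) * k)⁻¹ = k * (k * j * (k : G)⁻¹) * (k : G)⁻¹ := by group
            _ = (k * a ^ n) * j * (k : G)⁻¹ := by rw [e1]; group
            _ = a ^ n * (k * j * (k : G)⁻¹) := by rw [kz.eq]; group
            _ = a ^ n * a ^ n * j := by rw [e1]; group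
        rw [e2] at this
        exact mul_right_cancel (this.symm.trans (one_mul j).symm)
      have e4 : (a ^ n) ^ 3 = 1 := by
        rw [← zpow_natCast, ← zpow_mul, mul_comm, zpow_mul, zpow_natCast, ← o,
          pow_orderOf_eq_one, one_zpow]
      have e5 : a ^ n = 1 := by
        calc a ^ n = (a ^ n * a ^ n) * a ^ n := by rw [e3, one_mul]
          _ = (a ^ n) ^ 3 := by rw [pow_succ, pow_two]
          _ = 1 := e4
      rw [e5, one_mul] at e1
      calc j * k = (k * j * (k : G)⁻¹) * k := by rw [e1]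
        _ = k * j := by group
    rw [← hk, e] at kJ
    exact absurd kJ (by decide)
  by_contra hne
  rw [← hk] at hne
  rcases ca2_dz _ hne with h | ⟨d, h⟩
  · exact main g hg h
  · obtain ⟨e, rfl⟩ := hs d
    refine main (g * (e * g⁻¹ * e⁻¹)) ?_ (by simpa using h)
    intro j hj
    simp only [Subgroup.coe_mul, Subgroup.coe_inv]
    -- `g⁻¹` also acts trivially on `J / ⟨a⟩`
    have hi : ∀ y ∈ J, (g : G)⁻¹ * y * g * y⁻¹ ∈ zpowers a := by
      intro y hy
      have := nz g⁻¹ _ (inv_mem (hg y hy))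
      simp only [Subgroup.coe_inv, inv_inv] at this
      convert this using 1
      group
    have j1 : (e : G)⁻¹ * j * e ∈ J := by simpa using nj e⁻¹ j hj
    have t1 := nz g _ (nz e _ (hi _ j1))
    have t2 := hg j hj
    convert mul_mem t1 t2 using 1
    group

theorem ca2 {J : Subgroup G} {a : G} (comm : IsMulCommutative J) (exp : ∀ x ∈ J, x ^ 3 = 1)
    (card : Nat.card J = 27) (ha : a ∈ J) (a1 : a ≠ 1)
    (h81 : ¬ 81 ∣ Nat.card (centralizer ({a} : Set G))) (hCJ : centralizer (J : Set G) ≤ J)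
    (hb : ∀ x ∈ J, x ∉ zpowers a → ∃ b ∈ closure ({a, x} : Set G), b ≠ 1 ∧
      centralizer ({b} : Set G) ≤ normalizer (J : Set G))
    (eN : ↥(normalizer (J : Set G) ⊓ normalizer (zpowers a : Set G)) →* DihedralGroup 4)
    (hs : Surjective eN) (hk : ∀ g, eN g = 1 ↔ (g : G) ∈ J) :
    normalizer (zpowers a : Set G) ≤ normalizer (J : Set G) ∨
      ∃ f : normalizer (zpowers a : Set G) →* Equiv.Perm (Fin 6), Surjective f ∧
        ∀ g, f g = 1 ↔ (g : G) ∈ zpowers a := by
  haveI : Fact (Nat.Prime 3) := ⟨by norm_num⟩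
  have o : orderOf a = 3 := orderOf_eq_prime (exp a ha) a1
  have cm : ∀ x ∈ J, ∀ y ∈ J, x * y = y * x := fun x hx y hy =>
    congrArg Subtype.val (comm.is_comm.comm (⟨x, hx⟩ : J) ⟨y, hy⟩)
  have zJ : zpowers a ≤ J := by rw [zpowers_le]; exact ha
  have cz : Nat.card (zpowers a) = 3 := by rw [Nat.card_zpowers, o]
  let N : Subgroup G := normalizer (zpowers a : Set G)
  have JN : J ≤ N := fun j hj => ca2_nrm fun z hz => by
    rw [cm j hj z (zJ hz)]; simpa using hz
  let Z : Subgroup N := (zpowers a).subgroupOf N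
  haveI : Z.Normal := normal_in_normalizer
  let π : N →* N ⧸ Z := QuotientGroup.mk' Z
  have πs : Surjective π := QuotientGroup.mk'_surjective Z
  have π1 : ∀ g : N, π g = 1 ↔ (g : G) ∈ zpowers a := fun g => QuotientGroup.eq_one_iff g
  let S : Subgroup (N ⧸ Z) := (J.subgroupOf N).map π
  have hcom : S.comap π = J.subgroupOf N := by
    apply comap_map_eq_self
    intro g hg
    exact zJ ((π1 g).1 hg)
  have hS : ∀ g : N, π g ∈ S ↔ (g : G) ∈ J := fun g => by
    rw [← mem_comap, hcom]; rfl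
  have hNS : ∀ g : N, π g ∈ normalizer (S : Set (N ⧸ Z)) ↔ (g : G) ∈ normalizer (J : Set G) := by
    intro g
    constructor
    · intro h
      refine ca2_nrm fun j hj => ?_
      have := (mem_normalizer_iff.1 h (π ⟨j, JN hj⟩)).1 ((hS _).2 hj)
      rw [← map_inv, ← map_mul, ← map_mul, hS] at this
      exact this
    · intro h
      refine ca2_nrm fun s hs => ?_
      obtain ⟨j, rfl⟩ := πs s
      rw [← map_inv, ← map_mul, ← map_mul, hS]
      exact (mem_normalizer_iff.1 h j).1 ((hS j).1 hs)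
  have cZ : Nat.card Z = 3 := by
    rw [← cz]; exact Nat.card_congr (subgroupOfEquivOfLe le_normalizer).toEquiv
  have cJ : Nat.card (J.subgroupOf N) = 27 := by
    rw [← card]; exact Nat.card_congr (subgroupOfEquivOfLe JN).toEquiv
  have i1 : (J.subgroupOf N).index = S.index := by
    rw [← hcom]; exact index_comap_of_surjective S πs
  have i2 := card_eq_card_quotient_mul_card_subgroup Z
  have i3 := S.card_mul_index
  have i4 := (J.subgroupOf N).card_mul_index
  have i0 : S.index ≠ 0 := index_ne_zero_of_finite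
  rw [cJ, i1] at i4
  rw [cZ] at i2
  have cS : Nat.card S = 9 := by
    apply Nat.eq_of_mul_eq_mul_right (Nat.pos_of_ne_zero i0)
    omega
  have i5 : ¬ 3 ∣ S.index := by
    rintro ⟨m, hm⟩
    apply h81
    have k1 := (zpowers a).normalizerMonoidHom.ker.card_mul_index
    have k2 : (zpowers a).normalizerMonoidHom.ker.index ∣ 2 := by
      rw [index_ker]
      have := card_subgroup_dvd_card (zpowers a).normalizerMonoidHom.range
      rwa [IsCyclic.card_mulAut, cz] at this
    have k3 : Nat.card (zpowers a).normalizerMonoidHom.ker ∣ Nat.card (centralizer ({a} : Set G)) := by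
      rw [normalizerMonoidHom_ker, ← centralizer_closure ({a} : Set G), ← zpowers_eq_closure]
      exact dvd_of_eq (Nat.card_congr (subgroupOfEquivOfLe (centralizer_le_normalizer _)).toEquiv)
    refine dvd_trans ?_ k3
    have k4 : 81 ∣ Nat.card (zpowers a).normalizerMonoidHom.ker *
        (zpowers a).normalizerMonoidHom.ker.index := by
      rw [k1]
      exact ⟨m, i4.symm.trans (by rw [hm]; ring)⟩
    exact Nat.Coprime.dvd_of_dvd_mul_right (Nat.Coprime.coprime_dvd_right k2 (by norm_num)) k4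
  have pS : IsPGroup 3 S := IsPGroup.of_card (n := 2) (by rw [cS]; norm_num)
  -- the normalizer quotient
  let u0 : ↥(normalizer (J : Set G) ⊓ N) →* normalizer (S : Set (N ⧸ Z)) :=
    (π.comp (inclusion inf_le_right)).codRestrict _ fun g => (hNS _).2 g.2.1
  let u := (QuotientGroup.mk' (S.subgroupOf (normalizer (S : Set (N ⧸ Z))))).comp u0
  have us : Surjective u := by
    refine (QuotientGroup.mk'_surjective _).comp ?_
    rintro ⟨s, hs⟩
    obtain ⟨g, rfl⟩ := πs s
    exact ⟨⟨g, (hNS g).1 hs, g.2⟩, rfl⟩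
  have uk : u.ker = eN.ker := by
    ext g
    rw [MonoidHom.mem_ker, MonoidHom.mem_ker]
    exact ((QuotientGroup.eq_one_iff (u0 g)).trans (hS ⟨g, g.2.2⟩)).trans (hk g).symm
  have hC : centralizer (S : Set (N ⧸ Z)) = S := by
    apply le_antisymm
    · intro s hs'
      obtain ⟨g, rfl⟩ := πs s
      have hg : ∀ j ∈ J, (g : G) * j * (g : G)⁻¹ * j⁻¹ ∈ zpowers a := by
        intro j hj
        have := mem_centralizer_iff.1 hs' (π ⟨j, JN hj⟩) ((hS _).2 hj)
        refine (π1 (g * ⟨j, JN hj⟩ * g⁻¹ * (⟨j, JN hj⟩ : N)⁻¹)).1 ?_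
        rw [map_mul, map_mul, map_mul, map_inv, map_inv, ← this]; group
      rw [hS]
      exact ca2_ker comm ha o hCJ eN hs hk
        ⟨g, (hNS g).1 (centralizer_le_normalizer _ hs'), g.2⟩ hg
    · intro s hs'
      rw [mem_centralizer_iff]
      intro t ht
      obtain ⟨x, rfl⟩ := πs s
      obtain ⟨y, rfl⟩ := πs t
      rw [← map_mul, ← map_mul]
      congr 1
      exact Subtype.ext (cm _ ((hS y).1 ht) _ ((hS x).1 hs'))
  have hcent : ∀ x ∈ S, x ≠ 1 → centralizer ({x} : Set (N ⧸ Z)) ≤ normalizer (S : Set (N ⧸ Z)) := by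
    intro s hs' s1 t ht
    obtain ⟨x, rfl⟩ := πs s
    obtain ⟨g, rfl⟩ := πs t
    have xJ := (hS x).1 hs'
    obtain ⟨b, hbW, -, hbC⟩ := hb x xJ (fun h => s1 ((π1 x).2 h))
    rw [mem_centralizer_singleton_iff] at ht
    have gx : (g : G)⁻¹ * x * g ∈ J := by
      refine (hS (g⁻¹ * x * g)).1 ?_
      rw [map_mul, map_mul, map_inv, mul_assoc, ← ht]
      simpa using hs'
    have ga : (g : G)⁻¹ * a * g ∈ J := by
      apply zJ
      simpa using (mem_normalizer_iff.1 (g⁻¹).2 a).1 (mem_zpowers a)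
    have gb : (g : G)⁻¹ * b * g ∈ J := by
      have : closure ({a, (x : G)} : Set G) ≤ J.comap (MulAut.conj (g : G)⁻¹).toMonoidHom := by
        rw [closure_le]
        rintro y (rfl | rfl)
        · simpa using ga
        · simpa using gx
      simpa using this hbW
    rw [hNS]
    refine ca2_nrm fun j hj => ?_
    have y1 : (g : G) * j * (g : G)⁻¹ ∈ normalizer (J : Set G) := by
      apply hbC
      rw [mem_centralizer_singleton_iff]
      have := cm _ hj _ gb
      calc (g : G) * j * (g : G)⁻¹ * b = g * (j * ((g : G)⁻¹ * b * g)) * (g : G)⁻¹ := by group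
        _ = b * (g * j * (g : G)⁻¹) := by rw [this]; group
    have y2 : (g : G) * j * (g : G)⁻¹ ∈ N := mul_mem (mul_mem g.2 (JN hj)) (inv_mem g.2)
    refine (hk ⟨_, y1, y2⟩).1 (ca2_d3 _ ?_)
    rw [← map_pow]
    have : (⟨_, y1, y2⟩ : ↥(normalizer (J : Set G) ⊓ N)) ^ 3 = 1 := by
      apply Subtype.ext
      simp [conj_pow, exp j hj]
    rw [this, map_one]
  rcases Cfsg.Agent.S3333.result (pS.toSylow i5) S rfl cS hC
    ((QuotientGroup.quotientKerEquivOfSurjective u us).symm.trans
      ((QuotientGroup.quotientMulEquivOfEq uk).trans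
        (QuotientGroup.quotientKerEquivOfSurjective eN hs))) hcent with h | ⟨⟨e⟩⟩
  · left
    intro g hg
    refine (hNS ⟨g, hg⟩).1 ?_
    rw [normalizer_eq_top_iff.2 h]; trivial
  · right
    refine ⟨e.toMonoidHom.comp π, e.surjective.comp πs, fun g => ?_⟩
    rw [← π1]
    exact e.map_eq_one_iff

end Cfsg.Agent.A9R
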