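import Cfsg.Agent.BG.Base2

/-! The frame for the 3-local recognition of `Alt(9)`: `a = (678)`, `σ π = π (67)^{sign π}` for `π ∈ Sym{0..5}`, `ρ : i ↦ i + 3`. -/

set_option autoImplicit false

namespace Cfsg.Agent.A9R

open Equiv Subgroup Cfsg.Agent.BG

/-- `(0 1 2)` -/
def fc1 : Perm (Fin 6) := swap 0 2 * swap 0 1
/-- `(3 4 5)` -/
def fc2 : Perm (Fin 6) := swap 3 5 * swap 3 4
/-- `(01)(23)` -/
def ft : Perm (Fin 6) := swap 0 1 * swap 2 3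
/-- `(02)(13)` -/
def fv : Perm (Fin 6) := swap 0 2 * swap 1 3

variable {G : Type*} [Group G]

structure AF (σ : Perm (Fin 6) →* G) (a ρ : G) : Prop where
  inj : Function.Injective σ
  oa : orderOf a = 3
  sa : ∀ π, σ π * a * (σ π)⁻¹ = if Perm.sign π = 1 then a else a⁻¹
  na : ∀ g : G, g * a * g⁻¹ ∈ zpowers a → ∃ π, ∃ u ∈ zpowers a, g = u * σ π
  dj : ∀ π, σ π ∈ zpowers a → π = 1
  r1 : ρ * σ fc1 * ρ⁻¹ = σ fc2
  r2 : ρ * σ fc2 * ρ⁻¹ = a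
  r3 : ρ * a * ρ⁻¹ = σ fc1
  r4 : ρ * σ (swap 0 1) * ρ⁻¹ = σ (swap 0 1 * swap 3 4)
  r5 : ρ * σ (swap 3 4) * ρ⁻¹ = σ (swap 0 1)
  cb : ∀ g : G, g * σ (fc1 * fc2) = σ (fc1 * fc2) * g → g * a * g⁻¹ ∈ zpowers a
  cz : ∀ g : G, g * (σ (fc1 * fc2) * a) = σ (fc1 * fc2) * a * g → g ^ 9 = 1

/-- the four-group on `0,1,2,3` -/
abbrev VF (σ : Perm (Fin 6) →* G) : Subgroup G := closure {σ ft, σ fv}

end Cfsg.Agent.A9R
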