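import Mathlib

/-! A fusion argument in `2 × D₈` (the `S₃` case of the 3-local recognition of `Alt(9)`). -/

set_option autoImplicit false

namespace Cfsg.Agent.A9R

open Subgroup

variable {G : Type*} [Group G]

theorem k3_syl [Finite G] {U : Subgroup G} {r : G} (hU : IsPGroup 2 U) (Ur : U ≤ centralizer ({r} : Set G))
    (hN : ∀ t, t * r = r * t → (∀ u ∈ U, t * u * t⁻¹ ∈ U) → t ∈ U) {x : G} (x4 : x ^ 2 ^ 2 = 1)
    (hx : x * x = r) : ∃ u ∈ U, u * u = r := by
  have := Fact.mk Nat.prime_two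
  set C := centralizer ({r} : Set G) with hC
  obtain ⟨P, hP⟩ := (hU.comap_of_injective C.subtype (subtype_injective _)).exists_le_sylow
  have := P.2.isNilpotent
  have e : (U.comap C.subtype).subgroupOf P = ⊤ := by
    refine normalizerCondition_iff_only_full_group_self_normalizing.1 Group.normalizerCondition_of_isNilpotent _
      (le_antisymm (fun g hg => ?_) le_normalizer)
    refine hN _ (mem_centralizer_singleton_iff.1 g.1.2) fun u hu => ?_
    exact (mem_normalizer_iff.1 hg ⟨⟨u, Ur hu⟩, hP (show (⟨u, Ur hu⟩ : C) ∈ U.comap C.subtype from hu)⟩).1 hu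
  rw [subgroupOf_eq_top] at e
  have xC : x ∈ C := mem_centralizer_singleton_iff.2 (by rw [← hx, mul_assoc])
  have pz : IsPGroup 2 (zpowers (⟨x, xC⟩ : C)) := by
    rintro ⟨_, k, rfl⟩
    refine ⟨2, Subtype.ext ?_⟩
    show ((⟨x, xC⟩ : C) ^ k) ^ 2 ^ 2 = 1
    rw [← zpow_natCast, ← zpow_mul, mul_comm, zpow_mul, zpow_natCast, show (⟨x, xC⟩ : C) ^ 2 ^ 2 = 1 from
      Subtype.ext x4, one_zpow]
  obtain ⟨Q, hQ⟩ := pz.exists_le_sylow
  obtain ⟨c, rfl⟩ := MulAction.exists_smul_eq C Q P
  have m : c * ⟨x, xC⟩ * c⁻¹ ∈ ((c • Q : Sylow 2 C) : Subgroup C) := by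
    rw [Sylow.coe_subgroup_smul]
    exact smul_mem_pointwise_smul _ (MulAut.conj c) _ (hQ (mem_zpowers _))
  refine ⟨_, e m, ?_⟩
  have cr := mem_centralizer_singleton_iff.1 c.2
  show (c : G) * x * (c : G)⁻¹ * ((c : G) * x * (c : G)⁻¹) = r
  calc _ = (c : G) * (x * x) * (c : G)⁻¹ := by group
    _ = r := by rw [hx, cr, mul_inv_cancel_right]

theorem k3 [Finite G] {r v w d : G} (r2 : r * r = 1) (w2 : w * w = 1) (d2 : d * d = 1) (hv : d * w * d * w = v)
    (rw' : r * w = w * r) (rd : r * d = d * r) (vw : v * w = w * v) (vd : v * d = d * v) (r1 : r ≠ 1) (rv : r ≠ v)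
    (cr : IsConj r v) (cw : IsConj w v) (cd : IsConj d v) (cdr : IsConj (r * d) v) (nc : ¬ IsConj (r * w) v)
    (hC : ∀ g, g * v = v * g → g * w = w * g → g * r = r * g → g ∈ closure ({r, w, d} : Set G)) : False := by
  have wi : w⁻¹ = w := inv_eq_of_mul_eq_one_right w2
  have di : d⁻¹ = d := inv_eq_of_mul_eq_one_right d2
  have ri : r⁻¹ = r := inv_eq_of_mul_eq_one_right r2
  obtain ⟨g, hg⟩ := isConj_iff.1 cr
  have v2 : v * v = 1 := by
    rw [← hg]
    calc _ = g * (r * r) * g⁻¹ := by group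
      _ = 1 := by rw [r2]; group
  have v1 : v ≠ 1 := fun e => r1 (by
    calc r = g⁻¹ * (g * r * g⁻¹) * g := by group
      _ = 1 := by rw [hg, e]; group)
  have Crw : Commute r w := rw'
  have Crd : Commute r d := rd
  have Cvw : Commute v w := vw
  have Cvd : Commute v d := vd
  have Crv : Commute r v := hv ▸ ((Crd.mul_right Crw).mul_right Crd).mul_right Crw
  have dw : d * w = v * (w * d) := by
    calc d * w = d * w * d * w * (w⁻¹ * d⁻¹) := by group
      _ = _ := by rw [hv, wi, di]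
  have wd : w * d * (w * d) = v := by
    calc w * d * (w * d) = w * (d * w * d * w) * w⁻¹ := by group
      _ = v := by rw [hv, ← vw]; group
  let Zc : G → Prop := fun z => z = 1 ∨ z = r ∨ z = v ∨ z = r * v
  have Zr : ∀ z, Zc z → Zc (r * z) := by
    rintro z (rfl | rfl | rfl | rfl)
    · exact Or.inr (Or.inl (mul_one _))
    · exact Or.inl r2
    · exact Or.inr (Or.inr (Or.inr rfl))
    · exact Or.inr (Or.inr (Or.inl (by rw [← mul_assoc, r2, one_mul])))
  have Zv : ∀ z, Zc z → Zc (z * v) := by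
    rintro z (rfl | rfl | rfl | rfl)
    · exact Or.inr (Or.inr (Or.inl (one_mul _)))
    · exact Or.inr (Or.inr (Or.inr rfl))
    · exact Or.inl v2
    · exact Or.inr (Or.inl (by rw [mul_assoc, v2, mul_one]))
  have Zp : ∀ z, Zc z → Commute z w ∧ Commute z d ∧ z * z = 1 := by
    rintro z (rfl | rfl | rfl | rfl)
    · exact ⟨Commute.one_left _, Commute.one_left _, one_mul _⟩
    · exact ⟨Crw, Crd, r2⟩
    · exact ⟨Cvw, Cvd, v2⟩
    · exact ⟨Crw.mul_left Cvw, Crd.mul_left Cvd, by rw [Crv.symm.mul_mul_mul_comm, r2, v2, one_mul]⟩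
  set U := closure ({r, w, d} : Set G) with hU
  have step : ∀ x ∈ ({r, w, d} : Set G), ∀ u : G, (∃ z, Zc z ∧ (u = z ∨ u = z * w ∨ u = z * d ∨ u = z * (w * d))) →
      ∃ z, Zc z ∧ (x * u = z ∨ x * u = z * w ∨ x * u = z * d ∨ x * u = z * (w * d)) := by
    rintro x hx u ⟨z, hz, hu⟩
    obtain ⟨zw, zd, -⟩ := Zp z hz
    rcases hx with rfl | rfl | rfl
    · refine ⟨_, Zr z hz, ?_⟩
      rcases hu with rfl | rfl | rfl | rfl <;> simp [mul_assoc]
    · refine ⟨z, hz, ?_⟩
      rcases hu with rfl | rfl | rfl | rfl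
      · exact Or.inr (Or.inl zw.eq.symm)
      · exact Or.inl (by rw [← mul_assoc, ← zw.eq, mul_assoc, w2, mul_one])
      · exact Or.inr (Or.inr (Or.inr (by rw [← mul_assoc, ← zw.eq, mul_assoc])))
      · exact Or.inr (Or.inr (Or.inl (by rw [← mul_assoc, ← zw.eq, mul_assoc, ← mul_assoc x x, w2, one_mul])))
    · rcases hu with rfl | rfl | rfl | rfl
      · exact ⟨_, hz, Or.inr (Or.inr (Or.inl zd.eq.symm))⟩
      · exact ⟨_, Zv z hz, Or.inr (Or.inr (Or.inr (by rw [← mul_assoc, ← zd.eq, mul_assoc, dw, mul_assoc])))⟩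
      · exact ⟨_, hz, Or.inl (by rw [← mul_assoc, ← zd.eq, mul_assoc, d2, mul_one])⟩
      · exact ⟨_, Zv z hz, Or.inr (Or.inl (by
          rw [← mul_assoc, ← zd.eq, mul_assoc, ← mul_assoc x w, dw, mul_assoc v, mul_assoc w, d2, mul_one,
            mul_assoc]))⟩
  have nf : ∀ u ∈ U, ∃ z, Zc z ∧ (u = z ∨ u = z * w ∨ u = z * d ∨ u = z * (w * d)) := by
    intro u hu
    induction hu using closure_induction_left with
    | one => exact ⟨1, Or.inl rfl, Or.inl rfl⟩
    | mul_left x hx y _ ih => exact step x hx y ih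
    | inv_mul_cancel x hx y _ ih =>
      have : x⁻¹ = x := by rcases hx with rfl | rfl | rfl <;> assumption
      rw [this]; exact step x hx y ih
  have sq : ∀ u ∈ U, u * u = 1 ∨ u * u = v := fun u hu => by
    obtain ⟨z, hz, h⟩ := nf u hu
    obtain ⟨zw, zd, zz⟩ := Zp z hz
    rcases h with rfl | rfl | rfl | rfl
    · exact Or.inl zz
    · exact Or.inl (by rw [zw.symm.mul_mul_mul_comm, zz, w2, one_mul])
    · exact Or.inl (by rw [zd.symm.mul_mul_mul_comm, zz, d2, one_mul])
    · exact Or.inr (by rw [(zw.mul_right zd).symm.mul_mul_mul_comm, zz, wd, one_mul])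
  have mr : r ∈ U := subset_closure (by simp)
  have mw : w ∈ U := subset_closure (by simp)
  have md : d ∈ U := subset_closure (by simp)
  have pU : IsPGroup 2 U := fun ⟨u, hu⟩ => ⟨2, Subtype.ext (by
    show u ^ 2 ^ 2 = 1
    rw [show u ^ 2 ^ 2 = u * u * (u * u) by rw [show 2 ^ 2 = 2 + 2 from rfl, pow_add, pow_two]]
    rcases sq u hu with e | e <;> rw [e]
    · exact one_mul 1
    · exact v2)⟩
  have Ur : U ≤ centralizer ({r} : Set G) := (closure_le _).2 (by
    rintro x (rfl | rfl | rfl)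
    · exact mem_centralizer_singleton_iff.2 rfl
    · exact mem_centralizer_singleton_iff.2 rw'.symm
    · exact mem_centralizer_singleton_iff.2 rd.symm)
  have dwd : d * w * d⁻¹ = v * w := by rw [dw, di, mul_assoc, mul_assoc, d2, mul_one]
  have wdw : w * d * w⁻¹ = v * d := by
    calc w * d * w⁻¹ = w * d * (w * d) * d⁻¹ := by rw [wi]; group
      _ = _ := by rw [wd, di]
  have hN : ∀ t, t * r = r * t → (∀ u ∈ U, t * u * t⁻¹ ∈ U) → t ∈ U := fun t tr ht => by
    have tv : t * v * t⁻¹ = v := by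
      have e : t * v * t⁻¹ = t * (w * d) * t⁻¹ * (t * (w * d) * t⁻¹) := by rw [← wd]; group
      rcases sq _ (ht _ (mul_mem mw md)) with h | h
      · exact absurd (by
          calc v = t⁻¹ * (t * v * t⁻¹) * t := by group
            _ = 1 := by rw [e, h]; group) v1
      · exact e.trans h
    have tv' : t * v = v * t := by
      calc t * v = t * v * t⁻¹ * t := by group
        _ = _ := by rw [tv]
    have ct : IsConj (r * w) (r * (t * w * t⁻¹)) := isConj_iff.2 ⟨t, by
      calc t * (r * w) * t⁻¹ = t * r * w * t⁻¹ := by group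
        _ = _ := by rw [tr]; group⟩
    have ct' : IsConj w (t * w * t⁻¹) := isConj_iff.2 ⟨t, rfl⟩
    have inj : ∀ y, t * y = y * t → t * w * t⁻¹ = y → w = y := fun y a b => by
      calc w = t⁻¹ * (t * w * t⁻¹) * t := by group
        _ = t⁻¹ * (y * t) := by rw [b]; group
        _ = y := by rw [← a]; group
    have nd : ¬ Commute w d := fun c => v1 (by rw [← wd, c.symm.mul_mul_mul_comm, w2, d2, one_mul])
    have rr : ∀ y, r * (r * y) = y := fun y => by rw [← mul_assoc, r2, one_mul]
    have cvd : IsConj (v * d) v := (isConj_iff.2 ⟨w, wdw⟩).symm.trans cd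
    have crvd : IsConj (r * (v * d)) v := (isConj_iff.2 ⟨w, by
      calc w * (r * d) * w⁻¹ = w * r * d * w⁻¹ := by group
        _ = r * (w * d * w⁻¹) := by rw [← rw']; group
        _ = _ := by rw [wdw]⟩ : IsConj (r * d) (r * (v * d))).symm.trans cdr
    have cvw : IsConj (v * w) v := (isConj_iff.2 ⟨d, dwd⟩).symm.trans cw
    obtain ⟨z, hz, h⟩ := nf _ (ht w mw)
    obtain ⟨zw, zd, zz⟩ := Zp z hz
    rcases h with h | h | h | h
    · refine absurd (inj z ?_ h ▸ zd) nd
      rcases hz with rfl | rfl | rfl | rfl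
      · simp
      · exact tr
      · exact tv'
      · exact (Commute.mul_right tr tv').eq
    · rcases hz with rfl | rfl | rfl | rfl
      · refine hC t tv' ?_ tr
        calc t * w = t * w * t⁻¹ * t := by group
          _ = _ := by rw [h, one_mul]
      · rw [h, rr] at ct
        exact absurd (ct.trans cw) nc
      · have : d * t ∈ U := by
          refine hC _ (Commute.mul_left Cvd.symm tv').eq ?_ (Commute.mul_left Crd.symm tr).eq
          calc d * t * w = d * (t * w * t⁻¹) * t := by group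
            _ = d * z * d⁻¹ * (d * w * d⁻¹) * (d * t) := by rw [h]; group
            _ = w * (d * t) := by rw [dwd, ← vd, mul_inv_cancel_right, ← mul_assoc z, v2, one_mul]
        have := mul_mem (inv_mem md) this
        rwa [inv_mul_cancel_left] at this
      · rw [h, mul_assoc, rr] at ct
        exact absurd (ct.trans cvw) nc
    · rcases hz with rfl | rfl | rfl | rfl
      · rw [h, one_mul] at ct
        exact absurd (ct.trans cdr) nc
      · rw [h, rr] at ct
        exact absurd (ct.trans cd) nc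
      · rw [h] at ct
        exact absurd (ct.trans crvd) nc
      · rw [h, mul_assoc, rr] at ct
        exact absurd (ct.trans cvd) nc
    · refine absurd ?_ v1
      calc v = z * (w * d) * (z * (w * d)) := by rw [(zw.mul_right zd).symm.mul_mul_mul_comm, zz, wd, one_mul]
        _ = t * (w * w) * t⁻¹ := by rw [← h]; group
        _ = 1 := by rw [w2]; group
  have x2 : g⁻¹ * (w * d) * g * (g⁻¹ * (w * d) * g) = r := by
    calc _ = g⁻¹ * (w * d * (w * d)) * g := by group
      _ = r := by rw [wd, ← hg]; group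
  obtain ⟨u, hu, e⟩ := k3_syl pU Ur hN (x := g⁻¹ * (w * d) * g) (by
    rw [show 2 ^ 2 = 2 + 2 from rfl, pow_add, pow_two, x2, r2]) x2
  rcases sq u hu with h | h
  · exact r1 (e.symm.trans h)
  · exact rv (e.symm.trans h)

end Cfsg.Agent.A9R
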