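import Mathlib

set_option autoImplicit false
set_option synthInstance.maxSize 8192
set_option synthInstance.maxHeartbeats 200000

namespace Cfsg.Agent.A9R

open Equiv Subgroup Function

/-- table of a map -/
def ksT (a b c d e f : Fin 6) (i : Fin 6) : Fin 6 :=
  if i = 0 then a else if i = 1 then b else if i = 2 then c else if i = 3 then d else if i = 4 then e else f

theorem ks_bij {a b c d e f : Fin 6} (h1 : a ≠ b) (h2 : a ≠ c ∧ b ≠ c) (h3 : a ≠ d ∧ b ≠ d ∧ c ≠ d)
    (h4 : a ≠ e ∧ b ≠ e ∧ c ≠ e ∧ d ≠ e) (h5 : a ≠ f ∧ b ≠ f ∧ c ≠ f ∧ d ≠ f ∧ e ≠ f) :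
    Function.Bijective (ksT a b c d e f) := Finite.injective_iff_bijective.1 fun i j => by
  fin_cases i <;> fin_cases j <;> simp [ksT] <;> tauto

theorem ks_all {P : Perm (Fin 6) → Prop} : (∀ a b h1 c h2 d h3 e h4 f h5,
    P (Equiv.ofBijective _ (@ks_bij a b c d e f h1 h2 h3 h4 h5))) ↔ ∀ q, P q := ⟨fun h q => by
  have n : ∀ i j, i ≠ j → q i ≠ q j := fun i j => q.injective.ne
  convert h (q 0) (q 1) (n _ _ (by decide)) (q 2) ⟨n _ _ (by decide), n _ _ (by decide)⟩ (q 3)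
    ⟨n _ _ (by decide), n _ _ (by decide), n _ _ (by decide)⟩ (q 4)
    ⟨n _ _ (by decide), n _ _ (by decide), n _ _ (by decide), n _ _ (by decide)⟩ (q 5)
    ⟨n _ _ (by decide), n _ _ (by decide), n _ _ (by decide), n _ _ (by decide), n _ _ (by decide)⟩ using 1
  exact Equiv.ext fun i => by fin_cases i <;> rfl, fun h _ _ _ _ _ _ _ _ _ _ _ => h _⟩

/-- fast enumeration of `Sym(6)` -/
@[instance_reducible] noncomputable def ksDec (P : Perm (Fin 6) → Prop) [DecidablePred P] :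
    Decidable (∀ q, P q) := decidable_of_iff _ ks_all

attribute [local instance 2000] ksDec

theorem ks_d1 : ∀ p : Perm (Fin 6), p * (swap 0 1 * swap 2 3) = swap 0 1 * swap 2 3 * p →
    (p * p = 1 ∨ p * p = swap 0 1 * swap 2 3) := by decide +kernel

theorem ks_d2 : ∀ p : Perm (Fin 6), p * (swap 0 1 * swap 2 3) = swap 0 1 * swap 2 3 * p → p * p = 1 →
    p = swap 0 2 * swap 1 3 ∨ p = swap 0 1 * (swap 0 2 * swap 1 3) * (swap 0 1)⁻¹ ∨
    p = swap 0 1 * swap 2 3 ∨ p = swap 4 5 ∨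
    ∃ k ∈ ([1, swap 0 4 * swap 1 5, swap 2 4 * swap 3 5, swap 1 2, swap 1 3] : List (Perm (Fin 6))),
      swap 0 1 * swap 2 3 * k = k * (p * swap 4 5) ∨ swap 4 5 * k = k * (p * swap 4 5) := by
  decide +kernel

variable {G : Type*} [Group G] [Finite G]

theorem ks_into {p k : ℕ} [Fact p.Prime] {H U : Subgroup G} (hU : IsPGroup p U) (UH : U ≤ H)
    (hN : ∀ Q ≤ H, IsPGroup p Q → U ≤ Q → ∀ g ∈ Q, g ∈ normalizer (U : Set G) → g ∈ U)
    {e : G} (eH : e ∈ H) (he : e ^ p ^ k = 1) : ∃ h ∈ H, h * e * h⁻¹ ∈ U := by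
  obtain ⟨P, hP⟩ := (hU.comap_subtype (K := H)).exists_le_sylow
  have hQ : IsPGroup p ((P : Subgroup H).map H.subtype) := P.isPGroup'.map _
  have UQ : U ≤ (P : Subgroup H).map H.subtype := fun u hu => ⟨⟨u, UH hu⟩, hP hu, rfl⟩
  have QU : (P : Subgroup H).map H.subtype ≤ U := by
    haveI := hQ.isNilpotent
    by_contra hn
    have hlt : U.subgroupOf ((P : Subgroup H).map H.subtype) < ⊤ := by
      rw [lt_top_iff_ne_top, Ne, subgroupOf_eq_top]; exact hn
    obtain ⟨g, hg1, hg2⟩ := SetLike.exists_of_lt (Group.normalizerCondition_of_isNilpotent _ hlt)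
    rw [← subgroupOf_normalizer_eq UQ] at hg1
    exact hg2 (hN _ (map_subtype_le _) hQ UQ g g.2 hg1)
  have he' : IsPGroup p (zpowers (⟨e, eH⟩ : H)) := by
    rintro ⟨_, n, rfl⟩
    refine ⟨k, Subtype.ext (Subtype.ext ?_)⟩
    simp only [SubgroupClass.coe_pow, SubgroupClass.coe_zpow, OneMemClass.coe_one]
    rw [← zpow_natCast, ← zpow_mul, mul_comm, zpow_mul, zpow_natCast, he, one_zpow]
  obtain ⟨P1, hP1⟩ := he'.exists_le_sylow
  obtain ⟨h, hh⟩ := MulAction.exists_smul_eq H P1 P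
  refine ⟨h, h.2, QU ⟨h * ⟨e, eH⟩ * h⁻¹, ?_, rfl⟩⟩
  rw [← hh]
  exact smul_mem_pointwise_smul _ (MulAut.conj h) _ (hP1 (mem_zpowers _))

theorem ks3 {σ : Perm (Fin 6) →* G} (inj : Injective σ)
    (hC : ∀ g, g * σ (swap 0 1 * swap 2 3) = σ (swap 0 1 * swap 2 3) * g →
      g * σ (swap 0 2 * swap 1 3) = σ (swap 0 2 * swap 1 3) * g →
      g * σ (swap 4 5) = σ (swap 4 5) * g → g ∈ σ.range)
    (c1 : IsConj (σ (swap 0 1 * swap 2 3)) (σ (swap 4 5)))
    (nc : ¬ IsConj (σ (swap 0 1 * swap 2 3)) (σ (swap 0 1 * swap 2 3 * swap 4 5))) : False := by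
  haveI : Fact (Nat.Prime 2) := ⟨Nat.prime_two⟩
  generalize hv : (swap 0 1 * swap 2 3 : Perm (Fin 6)) = v at *
  generalize hw : (swap 0 2 * swap 1 3 : Perm (Fin 6)) = w at *
  generalize hr : (swap 4 5 : Perm (Fin 6)) = r at *
  have d1 := ks_d1
  have d2 := ks_d2
  rw [hv] at d1
  rw [hv, hw, hr] at d2
  have vv : v * v = 1 := by subst hv; decide
  have ww : w * w = 1 := by subst hw; decide
  let U : Subgroup G := σ.range ⊓ centralizer {σ v} ⊓ centralizer {σ r}
  have mU : ∀ g, g ∈ U ↔ ∃ p, p * v = v * p ∧ p * r = r * p ∧ σ p = g := by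
    intro g
    simp only [U, mem_inf, mem_centralizer_singleton_iff, MonoidHom.mem_range]
    constructor
    · rintro ⟨⟨⟨p, rfl⟩, h1⟩, h2⟩
      exact ⟨p, inj (by simpa using h1), inj (by simpa using h2), rfl⟩
    · rintro ⟨p, h1, h2, rfl⟩
      exact ⟨⟨⟨p, rfl⟩, by rw [← map_mul, h1, map_mul]⟩, by rw [← map_mul, h2, map_mul]⟩
  have hU : IsPGroup 2 U := by
    rintro ⟨g, hg⟩
    obtain ⟨p, h1, -, rfl⟩ := (mU g).1 hg
    refine ⟨2, Subtype.ext ?_⟩
    have : p ^ 2 ^ 2 = p * p * (p * p) := by simp [pow_succ, mul_assoc]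
    simp only [SubgroupClass.coe_pow, OneMemClass.coe_one]
    rw [← map_pow, this]
    rcases d1 p h1 with h | h <;> simp [h, vv]
  have c2 : w * swap 0 1 * (w * swap 0 1) = v := by subst hv hw; decide
  have cU : σ (w * swap 0 1) ∈ U := (mU _).2 ⟨_, by subst hv hw; decide, by subst hw hr; decide, rfl⟩
  have wU : σ w ∈ U := (mU _).2 ⟨_, by subst hv hw; decide, by subst hw hr; decide, rfl⟩
  have sq : ∀ y : G, y * σ (w * swap 0 1) * y⁻¹ ∈ U → y * σ v * y⁻¹ = σ v := by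
    intro y hy
    obtain ⟨p, h1, -, e⟩ := (mU _).1 hy
    have e2 : y * σ v * y⁻¹ = σ (p * p) := by rw [map_mul, e, ← c2, map_mul]; group
    rcases d1 p h1 with h | h
    · rw [h, map_one, conj_eq_one_iff, map_eq_one_iff σ inj] at e2
      exact absurd e2 (by subst hv; decide)
    · rw [e2, h]
  obtain ⟨x, hx⟩ := isConj_iff.1 c1
  obtain ⟨h, hH, hh⟩ := ks_into (p := 2) (k := 2) (H := centralizer {σ r}) hU inf_le_right (by
    intro Q QH _ _ g gQ gN
    have gr : g * σ r = σ r * g := mem_centralizer_singleton_iff.1 (QH gQ)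
    have gv' := sq g ((mem_normalizer_iff.1 gN _).1 cU)
    have gv : g * σ v = σ v * g := by rw [← mul_inv_eq_iff_eq_mul]; exact gv'
    obtain ⟨p, h1, -, e⟩ := (mU _).1 ((mem_normalizer_iff.1 gN _).1 wU)
    have pp : p * p = 1 := inj (by
      rw [map_mul, e, map_one]
      calc g * σ w * g⁻¹ * (g * σ w * g⁻¹) = g * σ (w * w) * g⁻¹ := by rw [map_mul]; group
        _ = 1 := by rw [ww]; simp)
    refine ⟨⟨?_, mem_centralizer_singleton_iff.2 gv⟩, QH gQ⟩
    rcases d2 p h1 pp with rfl | rfl | rfl | rfl | ⟨k, -, hk⟩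
    · exact hC g gv (by rw [← mul_inv_eq_iff_eq_mul]; exact e.symm) gr
    · have s1 : σ (swap 0 1) * σ v = σ v * σ (swap 0 1) := by
        rw [← map_mul, ← map_mul]; congr 1; subst hv; decide
      have s2 : σ (swap 0 1) * σ r = σ r * σ (swap 0 1) := by
        rw [← map_mul, ← map_mul]; congr 1; subst hr; decide
      have := hC ((σ (swap 0 1))⁻¹ * g)
        (((Commute.inv_left s1).mul_left gv).eq)
        (by
          rw [map_mul, map_mul, map_inv] at e
          calc (σ (swap 0 1))⁻¹ * g * σ w = (σ (swap 0 1))⁻¹ * (g * σ w * g⁻¹) * g := by group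
            _ = σ w * ((σ (swap 0 1))⁻¹ * g) := by rw [← e]; group)
        (((Commute.inv_left s2).mul_left gr).eq)
      simpa using mul_mem (⟨swap 0 1, rfl⟩ : σ (swap 0 1) ∈ σ.range) this
    · rw [← gv'] at e
      have := inj (mul_left_cancel (mul_right_cancel e))
      exact absurd this (by subst hv hw; decide)
    · have : g * σ p * g⁻¹ = σ p := by rw [gr]; group
      rw [← this] at e
      have := inj (mul_left_cancel (mul_right_cancel e))
      exact absurd this (by subst hr hw; decide)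
    · exfalso
      apply nc
      have a1 : IsConj (σ (p * r)) (σ (w * r)) := (isConj_iff.2 ⟨g, by
        rw [map_mul, map_mul, e]
        calc g * (σ w * σ r) * g⁻¹ = g * σ w * g⁻¹ * (g * σ r) * g⁻¹ := by group
          _ = _ := by rw [gr]; group⟩).symm
      have a2 : IsConj (σ (w * r)) (σ (v * r)) :=
        σ.map_isConj (isConj_iff.2 ⟨swap 1 2, by subst hv hw hr; decide⟩)
      have a3 : IsConj (σ v) (σ (p * r)) := by
        rcases hk with hk | hk
        · exact (σ.map_isConj (isConj_iff.2 ⟨k, by rw [← hk]; group⟩)).symm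
        · exact c1.trans (σ.map_isConj (isConj_iff.2 ⟨k, by rw [← hk]; group⟩)).symm
      exact (a3.trans a1).trans a2)
    (e := x * σ (w * swap 0 1) * x⁻¹)
    (by
      rw [mem_centralizer_singleton_iff, ← hx, ← c2, map_mul σ (w * swap 0 1)]; group)
    (by
      have : (w * swap 0 1) ^ 2 ^ 2 = 1 := by subst hw; decide
      rw [conj_pow, ← map_pow, this]; simp)
  have e1 := sq (h * x) (by simpa [mul_assoc] using hh)
  have e2 : h * x * σ v * (h * x)⁻¹ = σ r := by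
    calc h * x * σ v * (h * x)⁻¹ = h * (x * σ v * x⁻¹) * h⁻¹ := by group
      _ = σ r := by rw [hx, mem_centralizer_singleton_iff.1 hH]; group
  exact absurd (inj (e1.symm.trans e2)) (by subst hv hr; decide)

/-- `2² ≁ 2⁴`. -/
theorem knc {σ : Perm (Fin 6) →* G} (inj : Injective σ) {a : G} (a3 : a ^ 3 = 1)
    (sa : ∀ π, σ π * a * (σ π)⁻¹ = if Perm.sign π = 1 then a else a⁻¹)
    (hN : ∀ g ∈ normalizer (zpowers a : Set G), ∃ π, ∃ u ∈ zpowers a, g = u * σ π)
    (na : ¬ IsConj a (σ (swap 0 2 * swap 2 4 * (swap 1 3 * swap 3 5)))) :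
    ¬ IsConj (σ (swap 0 1 * swap 2 3)) (σ (swap 0 1 * swap 2 3 * swap 4 5)) := by
  haveI : Fact (Nat.Prime 3) := ⟨Nat.prime_three⟩
  intro hc
  obtain ⟨x, hx⟩ := isConj_iff.1 hc.symm
  have av : σ (swap 0 1 * swap 2 3) * a = a * σ (swap 0 1 * swap 2 3) := by
    have := sa (swap 0 1 * swap 2 3)
    rw [if_pos (by decide)] at this
    exact mul_inv_eq_iff_eq_mul.1 this
  have aH : zpowers a ≤ centralizer {σ (swap 0 1 * swap 2 3)} := by
    rw [zpowers_le, mem_centralizer_singleton_iff]; exact av.symm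
  have hU : IsPGroup 3 (zpowers a) := by
    rintro ⟨_, n, rfl⟩
    refine ⟨1, Subtype.ext ?_⟩
    simp only [SubgroupClass.coe_pow, OneMemClass.coe_one, pow_one]
    rw [← zpow_natCast, ← zpow_mul, mul_comm, zpow_mul, zpow_natCast, a3, one_zpow]
  obtain ⟨h, -, hh⟩ := ks_into (p := 3) (k := 1) hU aH (by
    intro Q QH hQ UQ g gQ gN
    obtain ⟨π, u, hu, rfl⟩ := hN g gN
    have m1 : σ π ∈ Q := by simpa using mul_mem (inv_mem (UQ hu)) gQ
    have m2 := mem_centralizer_singleton_iff.1 (QH m1)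
    rw [← map_mul, ← map_mul] at m2
    have m3 : π ^ 4 = 1 := by
      have : π ^ 4 = π * π * (π * π) := by simp [pow_succ, mul_assoc]
      rw [this]
      rcases ks_d1 π (inj m2) with h | h <;> rw [h] <;> decide
    obtain ⟨n, hn⟩ := hQ ⟨_, m1⟩
    have m4 : σ π ^ 3 ^ n = 1 := congrArg Subtype.val hn
    have m5 : σ π ^ 4 = 1 := by rw [← map_pow, m3, map_one]
    have m6 : σ π = 1 := by
      have := pow_gcd_eq_one.2 ⟨m4, m5⟩
      rwa [Nat.Coprime.gcd_eq_one (Nat.Coprime.pow_left n (by norm_num)), pow_one] at this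
    rw [m6, mul_one]; exact hu)
    (e := x * σ (swap 0 2 * swap 2 4 * (swap 1 3 * swap 3 5)) * x⁻¹)
    (by
      rw [mem_centralizer_singleton_iff, ← hx]
      have : σ (swap 0 2 * swap 2 4 * (swap 1 3 * swap 3 5)) * σ (swap 0 1 * swap 2 3 * swap 4 5) =
          σ (swap 0 1 * swap 2 3 * swap 4 5) * σ (swap 0 2 * swap 2 4 * (swap 1 3 * swap 3 5)) := by
        rw [← map_mul, ← map_mul]; congr 1; decide
      calc _ = x * (σ (swap 0 2 * swap 2 4 * (swap 1 3 * swap 3 5)) *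
            σ (swap 0 1 * swap 2 3 * swap 4 5)) * x⁻¹ := by group
        _ = _ := by rw [this]; group)
    (by
      have : (swap 0 2 * swap 2 4 * (swap 1 3 * swap 3 5) : Perm (Fin 6)) ^ 3 ^ 1 = 1 := by decide
      rw [conj_pow, ← map_pow, this]; simp)
  apply na
  have k1 : IsConj (σ (swap 0 2 * swap 2 4 * (swap 1 3 * swap 3 5)))
      (h * (x * σ (swap 0 2 * swap 2 4 * (swap 1 3 * swap 3 5)) * x⁻¹) * h⁻¹) :=
    isConj_iff.2 ⟨h * x, by group⟩
  refine IsConj.trans ?_ k1.symm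
  obtain ⟨i, hi⟩ := hh
  have h3' : a ^ (3 : ℤ) = 1 := by exact_mod_cast a3
  have e : a ^ i = a ^ (i % 3) := by
    conv_lhs => rw [← Int.mul_ediv_add_emod i 3, zpow_add, zpow_mul, h3', one_zpow, one_mul]
  have hi3 : i % 3 = 0 ∨ i % 3 = 1 ∨ i % 3 = 2 := by omega
  simp only at hi
  rcases hi3 with h0 | h0 | h0 <;> rw [e, h0] at hi
  · rw [zpow_zero, eq_comm, conj_eq_one_iff, conj_eq_one_iff, map_eq_one_iff σ inj] at hi
    exact absurd hi (by decide)
  · rw [← hi, zpow_one]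
  · rw [← hi]
    refine isConj_iff.2 ⟨σ (swap 0 1), ?_⟩
    rw [sa, if_neg (by decide)]
    symm
    apply eq_inv_of_mul_eq_one_left
    rw [← h3']; group

end Cfsg.Agent.A9R
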