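import Cfsg.Agent.S3702
import Cfsg.Agent.A9R.NS0

/-! `S3702` without the strong closure hypothesis (lead; adapted from helper13's `S3702`). -/

set_option autoImplicit false
open Cfsg

namespace Cfsg.Agent.A9R

open Cfsg.Agent.Hig Subgroup Equiv Cfsg.Agent.S3702

theorem eq_top {G : Type*} [Group G] [Finite G] (H : Subgroup G)
    (hH : Nonempty (↥H ≃* ↥(Subgroup.closure ({Equiv.swap (0 : Fin 9) 1 * Equiv.swap 1 2,
        Equiv.swap (0 : Fin 9) 3 * Equiv.swap 3 6 * (Equiv.swap (1 : Fin 9) 4 * Equiv.swap 4 7) * (Equiv.swap (2 : Fin 9) 5 * Equiv.swap 5 8),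
        Equiv.swap (0 : Fin 9) 1 * Equiv.swap 3 4, Equiv.swap (0 : Fin 9) 3 * Equiv.swap 1 4 * Equiv.swap 2 5 * Equiv.swap 6 7} : Set (Equiv.Perm (Fin 9))))))
    (J : Subgroup G) (hJ : J = (Cfsg.pCore 3 ↥H).map H.subtype)
    (hC : ∀ j ∈ J, j ≠ 1 → Subgroup.centralizer ({j} : Set G) ≤ H) : H = ⊤ := by
  obtain ⟨f⟩ := hH
  have := Fact.mk Nat.prime_three
  rw [gens.1, gens.2.1, gens.2.2.1, gens.2.2.2.1] at f
  set X := closure ({p0 (1, 0, 0), w0 1, w0 2, w0 3} : Set (Perm (Fin 9))) with hX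
  have mw : ∀ i, w0 i ∈ X := fun i => by
    induction i using WellFoundedLT.induction with
    | ind i ih =>
      rcases gens.2.2.2.2.2.2.1 i with rfl | ⟨j, hj, c⟩
      · exact gens.2.2.2.2.1 ▸ one_mem _
      · rcases c with c | c | c <;> rw [← c, w0_mul] <;>
          exact mul_mem (subset_closure (by simp)) (ih j hj)
  have mp : ∀ x, p0 x ∈ X := fun x => by
    have k : ∀ (n : ℕ) i, p0 (n • eS i (1, 0, 0)) ∈ X := fun n i => by
      induction n with
      | zero => exact zero_smul ℕ (eS i (1, 0, 0)) ▸ gens.2.2.2.2.2.1 ▸ one_mem _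
      | succ n ih =>
        rw [succ_nsmul, p0_add, eq_mul_inv_of_mul_eq (w0_p0 i _)]
        exact mul_mem ih (mul_mem (mul_mem (mw _) (subset_closure (by simp))) (inv_mem (mw _)))
    rw [gens.2.2.2.2.2.2.2 x, p0_add, p0_add]
    exact mul_mem (mul_mem (k _ _) (k _ _)) (k _ _)
  have pm : ∀ p q : Q4, p0 (qm p q).1 * w0 (qm p q).2 = p0 p.1 * w0 p.2 * (p0 q.1 * w0 q.2) :=
    fun p q => by
      rw [qm, p0_add, w0_mul, mul_assoc, ← mul_assoc (p0 (eS _ _)), w0_p0]; simp only [mul_assoc]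
  have f0 : ∀ g ∈ X, ∃ p : Q4, p0 p.1 * w0 p.2 = g := fun g hg => by
    induction hg using closure_induction with
    | mem g hg =>
      rcases hg with rfl | rfl | rfl | rfl
      · exact ⟨(_, 0), by rw [gens.2.2.2.2.1, mul_one]⟩
      all_goals exact ⟨(0, _), by rw [gens.2.2.2.2.2.1, one_mul]⟩
    | one => exact ⟨(0, 0), by rw [gens.2.2.2.2.1, gens.2.2.2.2.2.1, mul_one]⟩
    | mul _ _ _ _ h1 h2 =>
      obtain ⟨p, rfl⟩ := h1
      obtain ⟨q, rfl⟩ := h2
      exact ⟨_, pm p q⟩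
    | inv _ _ h1 =>
      obtain ⟨p, rfl⟩ := h1
      exact ⟨qm (0, iv p.2) (-p.1, 0), by
        rw [pm, gens.2.2.2.2.1, gens.2.2.2.2.2.1, mul_one, one_mul, mul_inv_rev, p0_neg, w0_iv]⟩
  obtain ⟨e, he⟩ : ∃ e : Q4 → H, ∀ p, e p = f.symm ⟨_, mul_mem (mp p.1) (mw p.2)⟩ :=
    ⟨_, fun _ => rfl⟩
  have mul : ∀ p q, e (qm p q) = e p * e q := fun p q => by
    rw [he, he, he, ← map_mul]; exact congrArg f.symm (Subtype.ext (pm p q))
  have inj : Function.Injective e := fun p q c => by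
    rw [he, he] at c; exact pi_inj _ _ (congrArg Subtype.val (f.symm.injective c))
  have sur : ∀ g, ∃ p, e p = g := fun g => (f0 _ (f g).2).imp fun p c => by
    rw [he, MulEquiv.symm_apply_eq]; exact Subtype.ext c
  have one : e (0, 0) = 1 := by simpa [q4_misc.2.1] using mul (0, 0) (0, 0)
  have pw : ∀ p n, e (qp p n) = e p ^ n := fun p n => by
    induction n with
    | zero => rw [pow_zero, qp, one]
    | succ n ih => rw [qp, mul, ih, pow_succ]
  have act : ∀ r x, e r * e (x, 0) * (e r)⁻¹ = e (eS r.2 x, 0) := fun r x => by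
    rw [mul_inv_eq_iff_eq_mul, ← congrArg e (q4_misc.2.2.2.1 r), mul, mul_assoc, ← mul,
      q4_misc.2.2.1, mul, ← mul_assoc, ← mul_assoc, ← mul, ← mul (_, 0) (_, 0), q4_misc.2.1,
      q4_misc.2.1, add_comm]
  have m1 : ∀ k, e (k, 0) ∈ pCore 3 H := fun k => by
    let φ : Multiplicative K3 →* H := MonoidHom.mk' (fun k => e (k.toAdd, 0)) fun x y => by
      rw [← mul, q4_misc.2.1]; rfl
    refine (le_sSup (show φ.range ∈ {N : Subgroup H | N.Normal ∧ IsPGroup 3 N} from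
      ⟨⟨?_⟩, ?_⟩) : φ.range ≤ pCore 3 H) ⟨.ofAdd k, rfl⟩
    · rintro _ ⟨x, rfl⟩ g
      obtain ⟨r, rfl⟩ := sur g
      exact ⟨.ofAdd _, (act r _).symm⟩
    · exact (IsPGroup.of_card (n := 3) (by simp)).of_surjective _ φ.rangeRestrict_surjective
  have mJ : ∀ k, (e (k, 0) : G) ∈ J := fun k => hJ ▸ mem_map_of_mem _ (m1 k)
  have h : Sn fun p => (e p : G) := ⟨fun p q => by rw [mul, coe_mul],
    fun p q c => inj (Subtype.ext c), fun k hk g hg => by
      obtain ⟨p, hp⟩ := sur ⟨g, hC _ (mJ k) (fun c => hk (congrArg Prod.fst (inj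
        (Subtype.ext (c.trans (by rw [one]; rfl)))))) (mem_centralizer_singleton_iff.2 hg)⟩
      exact ⟨p, congrArg Subtype.val hp⟩⟩
  exact eq_top_of_card_eq H (by
    rw [h.card, ← Nat.card_eq_of_bijective e ⟨inj, sur⟩]; simp)

end Cfsg.Agent.A9R
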