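import Cfsg.Agent.BG.Base4

/-! The centraliser of the four-group has order divisible by 16. -/

set_option autoImplicit false

namespace Cfsg.Agent.A9R

open Equiv Subgroup Cfsg.Agent.BG

def k3t : Perm (Fin 6) := swap 0 1 * swap 2 3
def k3v : Perm (Fin 6) := swap 0 2 * swap 1 3
def k3r : Perm (Fin 6) := swap 4 5
def k3w : Perm (Fin 6) := swap 0 1
def k3E : Finset (Perm (Fin 6)) := {1, k3t, k3v, k3t * k3v, k3r, k3t * k3r, k3v * k3r, k3t * k3v * k3r}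
def k3U : Finset (Perm (Fin 6)) := k3E ∪ k3E.image (· * k3w)

def k3sub (S : Finset (Perm (Fin 6))) (h1 : 1 ∈ S) (h2 : ∀ x ∈ S, ∀ y ∈ S, x * y⁻¹ ∈ S) : Subgroup (Perm (Fin 6)) :=
  Subgroup.ofDiv S ⟨1, h1⟩ h2

def k3E' : Subgroup (Perm (Fin 6)) := k3sub k3E (by decide +kernel) (by decide +kernel)
def k3U' : Subgroup (Perm (Fin 6)) := k3sub k3U (by decide +kernel) (by decide +kernel)

theorem k3_facts : k3E.card = 8 ∧ k3E ⊆ k3U ∧ k3t ∈ k3U ∧ k3v ∈ k3U ∧ k3r ∈ k3U ∧ k3w ∈ k3U ∧ k3v * k3w ∈ k3U ∧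
    k3v * k3r ∈ k3U ∧ k3v * k3w * (k3v * k3w) = k3t ∧ (∀ x ∈ k3E, x * k3t = k3t * x ∧ x * k3v = k3v * x) ∧
    (∀ x ∈ k3U, x * k3r = k3r * x ∧ x ^ 2 ^ 2 = 1 ∧ (x * x = 1 ∨ x * x = k3t) ∧ (x * x = 1 → x = 1 ∨
      x.cycleType = k3t.cycleType ∨ x.cycleType = k3r.cycleType ∨ x = k3t * k3r ∨ x = k3v * k3r ∨ x = k3t * k3v * k3r)) ∧
    k3w * (k3t * k3v) * k3w⁻¹ = k3v ∧ k3w * k3t = k3t * k3w ∧ k3t ≠ 1 ∧ k3r ≠ 1 ∧ k3r ≠ k3t ∧ k3v ≠ k3t ∧
    (k3t * k3r).cycleType = (k3v * k3r).cycleType ∧ k3v * k3r * (k3v * k3r) = 1 ∧ k3v * k3r ≠ 1 := by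
  refine ⟨?_, ?_, ?_, ?_, ?_, ?_, ?_, ?_, ?_, ?_, ?_, ?_, ?_, ?_, ?_, ?_, ?_, ?_, ?_, ?_⟩ <;> decide +kernel

theorem s3k {G : Type*} [Group G] [Finite G] (σ : Perm (Fin 6) →* G) (inj : Function.Injective σ)
    (h1 : IsConj (σ (swap 0 1 * swap 2 3)) (σ (swap 4 5)))
    (h2 : ¬ IsConj (σ (swap 0 1 * swap 2 3)) (σ (swap 0 1 * swap 2 3 * swap 4 5))) :
    16 ∣ Nat.card ↥(centralizer {σ (swap 0 1 * swap 2 3)} ⊓ centralizer {σ (swap 0 2 * swap 1 3)}) := by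
  change IsConj (σ k3t) (σ k3r) at h1
  change ¬ IsConj (σ k3t) (σ (k3t * k3r)) at h2
  change 16 ∣ Nat.card ↥(centralizer {σ k3t} ⊓ centralizer {σ k3v})
  by_contra n16
  obtain ⟨f1, f2, f3, f4, f5, f6, f7, f8, f9, f10, f11, f12, f13, f14, f15, f16, f17, f18, f19, f20⟩ := k3_facts
  have mc : ∀ {x y : G}, x ∈ centralizer {y} ↔ x * y = y * x := mem_centralizer_singleton_iff
  have cj' : ∀ {x y : Perm (Fin 6)}, x.cycleType = y.cycleType → IsConj (σ x) (σ y) := fun e =>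
    MonoidHom.map_isConj σ (Perm.isConj_iff_cycleType_eq.2 e)
  have UC : k3U'.map σ ≤ centralizer {σ k3r} := by
    rintro _ ⟨x, hx, rfl⟩
    exact mc.2 (by rw [← map_mul, (f11 x hx).1, map_mul])
  have Up : IsPGroup 2 (k3U'.map σ) := IsPGroup.map (fun x => ⟨2, Subtype.ext (f11 x x.2).2.1⟩) σ
  have cE : Nat.card (k3E'.map σ) = 8 := by
    rw [card_map_of_injective inj, ← f1, ← Fintype.card_coe, ← Nat.card_eq_fintype_card]; rfl
  have sq : ∀ g : G, ∀ y, g * σ (k3v * k3w) * g⁻¹ = σ y → g * σ k3t * g⁻¹ = σ (y * y) := fun g y e => by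
    rw [map_mul, ← e, conj_mul, ← map_mul, f9]
  have syl : SylowIn 2 (k3U'.map σ) (centralizer {σ k3r}) := by
    refine Sylow_subnorm (max_pgroup_Sylow (le_inf UC (normG _)) Up fun S pS US hS => le_antisymm (fun g hg => ?_) US)
    have key : ∀ g ∈ S, g * σ k3t = σ k3t * g → g * σ k3v = σ k3v * g → g ∈ k3U'.map σ := fun g hg a b => by
      have EA : k3E'.map σ ≤ S ⊓ (centralizer {σ k3t} ⊓ centralizer {σ k3v}) := by
        rintro _ ⟨x, hx, rfl⟩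
        exact ⟨US ⟨x, f2 hx, rfl⟩, mc.2 (by rw [← map_mul, (f10 x hx).1, map_mul]),
          mc.2 (by rw [← map_mul, (f10 x hx).2, map_mul])⟩
      obtain ⟨k, hk⟩ := (pS.to_le (inf_le_left : S ⊓ (centralizer {σ k3t} ⊓ centralizer {σ k3v}) ≤ S)).exists_card_eq
      have k3 : k ≤ 3 := by
        by_contra hk'
        exact n16 (((pow_dvd_pow 2 (by omega : 4 ≤ k)).trans hk.symm.dvd).trans (card_dvd_of_le inf_le_right))
      obtain ⟨x, hx, rfl⟩ := (eq_of_le_of_card_ge EA (by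
        rw [hk, cE]; exact Nat.pow_le_pow_right two_pos k3)).ge ⟨hg, mc.2 a, mc.2 b⟩
      exact ⟨x, f2 hx, rfl⟩
    have gr : g * σ k3r * g⁻¹ = σ k3r := mul_inv_eq_iff_eq_mul.2 (mc.1 (hS hg).1)
    have gt : g * σ k3t * g⁻¹ = σ k3t := by
      obtain ⟨y, hy, e⟩ := conj_mem_of_norm (hS hg).2 (⟨_, f7, rfl⟩ : σ (k3v * k3w) ∈ k3U'.map σ)
      rw [sq g y e.symm]
      refine congrArg σ ((f11 y hy).2.2.1.resolve_left fun e1 => f14 (inj ?_))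
      have := sq g y e.symm
      rw [e1, map_one, conj_eq_one_iff] at this
      rw [this, map_one]
    obtain ⟨y, hy, e⟩ := conj_mem_of_norm (hS hg).2 (⟨_, f8, rfl⟩ : σ (k3v * k3r) ∈ k3U'.map σ)
    have cy : IsConj (σ (k3t * k3r)) (σ y) := (cj' f18).trans (isConj_iff.2 ⟨g, e.symm⟩)
    have ev : g * σ k3v * g⁻¹ * σ k3r = σ y := by rw [e, map_mul, ← conj_mul, gr]
    rcases (f11 y hy).2.2.2 (inj (by rw [map_mul, e, conj_mul, ← map_mul, f19, map_one, mul_one, mul_inv_cancel])) with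
      h | h | h | h | h | h
    · rw [h, map_one, eq_comm, conj_eq_one_iff] at e
      exact absurd (inj (e.trans (map_one σ).symm)) f20
    · exact absurd (cy.trans (cj' h)).symm h2
    · exact absurd (h1.trans (cy.trans (cj' h)).symm) h2
    · rw [h, map_mul, mul_left_inj, ← gt, mul_left_inj, mul_right_inj] at ev
      exact absurd (inj ev) f17
    · rw [h, map_mul, mul_left_inj] at ev
      exact key g hg (mul_inv_eq_iff_eq_mul.1 gt) (mul_inv_eq_iff_eq_mul.1 ev)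
    · rw [h, map_mul, mul_left_inj] at ev
      have hw : σ k3w ∈ k3U'.map σ := ⟨_, f6, rfl⟩
      refine (mul_mem_cancel_left hw).1 (key _ (mul_mem (US hw) hg) ?_ (mul_inv_eq_iff_eq_mul.1 ?_))
      · rw [mul_assoc, mul_inv_eq_iff_eq_mul.1 gt, ← mul_assoc, ← map_mul, f13, map_mul, mul_assoc]
      · rw [mul_inv_rev, mul_assoc (σ k3w), mul_assoc (σ k3w), ← mul_assoc (g * σ k3v), ev, ← map_inv, ← map_mul,
          ← map_mul, ← mul_assoc, f12]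
  obtain ⟨g, hg⟩ := isConj_iff.1 h1
  have gC : cj g (k3U'.map σ) ≤ centralizer {σ k3r} := by
    intro z hz
    obtain ⟨_, ⟨x, hx, rfl⟩, rfl⟩ := mem_cj'.1 hz
    refine mc.2 ?_
    rw [← hg, conj_mul, conj_mul, ← map_mul, ← map_mul]
    have : ∀ x ∈ k3U, x * k3t = k3t * x := by decide +kernel
    rw [this x hx]
  obtain ⟨c, hc, e⟩ := Sylow_Jsub syl gC (Up.map _)
  obtain ⟨y, hy, e1⟩ := e (mem_cj'.2 ⟨_, mem_cj'.2 ⟨_, (⟨_, f7, rfl⟩ : σ (k3v * k3w) ∈ k3U'.map σ), rfl⟩, rfl⟩)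
  have e2 := sq (c * g) y (by rw [e1]; group)
  rw [mul_inv_rev, mul_assoc c, mul_assoc c, ← mul_assoc (g * _), hg, ← mul_assoc, mc.1 hc, mul_inv_cancel_right] at e2
  rcases (f11 y hy).2.2.1 with h | h <;> rw [h] at e2
  exacts [f15 (inj e2), f16 (inj e2)]

end Cfsg.Agent.A9R
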